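import Groth.Agent.Lib.GrpScheme14.Basic
import Groth.Agent.Lib.PurTrans14.Main

/-!
# Field valued points through algebra maps
-/

universe u

set_option backward.isDefEq.respectTransparency.types false
set_option backward.isDefEq.respectTransparency false
set_option linter.unusedVariables false

open CategoryTheory CategoryTheory.Limits AlgebraicGeometry Opposite
open scoped TensorProduct

namespace Groth.Agent.GrpScheme14

open AlgSp Groth.Agent.AlgSpace Groth.Agent.AlgSpDecent Groth.Agent.FieldSpread14

noncomputable section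

variable {k : Type u} [Field k]

theorem exists_specHom {B C : Type u} [CommRing B] [CommRing C] [Algebra k B] [Algebra k C]
    (v : spec k C ⟶ spec k B) : ∃ φ : B →ₐ[k] C, specHom φ = v := by
  let r : B →+* C :=
    (Spec.preimage (show Spec (CommRingCat.of C) ⟶ Spec (CommRingCat.of B) from v.left)).hom
  have hr : r.comp (algebraMap k B) = algebraMap k C := by
    have h : CommRingCat.ofHom (algebraMap k B) ≫ CommRingCat.ofHom r = CommRingCat.ofHom (algebraMap k C) := by
      apply Spec.map_injective
      rw [Spec.map_comp]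
      show Spec.map (Spec.preimage _) ≫ _ = _
      rw [Spec.map_preimage]
      exact Over.w v
    exact congrArg CommRingCat.Hom.hom h
  exact ⟨⟨r, fun x => RingHom.congr_fun hr x⟩, Over.OverMorphism.ext (by
    show Spec.map (Spec.preimage _) = _
    rw [Spec.map_preimage])⟩

/-- Every point is given by a field with an algebra structure. -/
theorem exists_field_hom {F : Sp (Spec (CommRingCat.of k))} (p : FieldPt F) :
    ∃ (_ : Algebra k p.K) (g : (yon _).obj (spec k p.K) ⟶ F),
      Points.ofPt g (IsLocalRing.closedPoint p.K) = Points.mk p ∧ (Mono p.toHom → Mono g) := by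
  let : Algebra k p.K := (Spec.preimage p.str).hom.toAlgebra
  let e : spec k p.K ≅ p.pt := Over.isoMk (Iso.refl _) (by
    show 𝟙 _ ≫ p.str = Spec.map _
    rw [Category.id_comp]
    exact (Spec.map_preimage p.str).symm)
  refine ⟨this, (yon _).map e.hom ≫ p.toHom, ?_, fun h => ?_⟩
  · rw [ofPt_map_comp]
    exact Points.ofPt_toHom p _
  · infer_instance

/-- Two field valued maps with the same point agree over a common field. -/
theorem exists_common_field {F : Sp (Spec (CommRingCat.of k))} {E₁ E₂ : Type u} [Field E₁] [Algebra k E₁]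
    [Field E₂] [Algebra k E₂] (g₁ : (yon _).obj (spec k E₁) ⟶ F) (g₂ : (yon _).obj (spec k E₂) ⟶ F)
    (h : Points.ofPt g₁ (IsLocalRing.closedPoint E₁) = Points.ofPt g₂ (IsLocalRing.closedPoint E₂)) :
    ∃ (M : Type u) (_ : Field M) (_ : Algebra k M) (α : E₁ →ₐ[k] M) (β : E₂ →ₐ[k] M),
      (yon _).map (specHom α) ≫ g₁ = (yon _).map (specHom β) ≫ g₂ := by
  let q₁ : FieldPt F := ⟨E₁, (spec k E₁).hom, (J _).uliftYonedaEquiv g₁⟩
  let q₂ : FieldPt F := ⟨E₂, (spec k E₂).hom, (J _).uliftYonedaEquiv g₂⟩
  have t₁ : q₁.toHom = g₁ := Equiv.symm_apply_apply _ g₁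
  have t₂ : q₂.toHom = g₂ := Equiv.symm_apply_apply _ g₂
  have e : Points.mk q₁ = Points.mk q₂ := by
    rw [← Points.ofPt_toHom q₁ (IsLocalRing.closedPoint E₁), ← Points.ofPt_toHom q₂ (IsLocalRing.closedPoint E₂),
      t₁, t₂]
    exact h
  obtain ⟨M, hM, wM, c₁, c₂, hc⟩ := exists_common_of_mk_eq e
  let : Algebra k M := (Spec.preimage wM).hom.toAlgebra
  let eM : spec k M ⟶ Over.mk wM := Over.homMk (𝟙 _) (by
    show 𝟙 _ ≫ wM = Spec.map _
    rw [Category.id_comp]
    exact (Spec.map_preimage wM).symm)
  obtain ⟨α, hα⟩ := exists_specHom (C := M) (show spec k M ⟶ spec k E₁ from eM ≫ c₁)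
  obtain ⟨β, hβ⟩ := exists_specHom (C := M) (show spec k M ⟶ spec k E₂ from eM ≫ c₂)
  refine ⟨M, hM, this, α, β, ?_⟩
  rw [hα, hβ, ← t₁, ← t₂]
  exact ((congrArg (· ≫ q₁.toHom) ((yon _).map_comp eM c₁)).trans (Category.assoc _ _ _)).trans
    ((congrArg ((yon _).map eM ≫ ·) hc).trans
      ((Category.assoc _ _ _).symm.trans (congrArg (· ≫ q₂.toHom) ((yon _).map_comp eM c₂)).symm))

theorem ofPt_specHom {F : Sp (Spec (CommRingCat.of k))} {E E' : Type u} [Field E] [Algebra k E]
    [Field E'] [Algebra k E'] (φ : E →ₐ[k] E') (g : (yon _).obj (spec k E) ⟶ F) :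
    Points.ofPt ((yon _).map (specHom φ) ≫ g) (IsLocalRing.closedPoint E') =
      Points.ofPt g (IsLocalRing.closedPoint E) := by
  rw [ofPt_map_comp]
  congr 1
  exact Subsingleton.elim (α := PrimeSpectrum E) _ _

theorem bijective_ofPt_iso {S : Scheme.{u}} {H : Over S} {P : Sp S} (e : (yon S).obj H ≅ P) :
    Function.Bijective (Points.ofPt e.hom) := by
  rw [show Points.ofPt e.hom = Points.map e.hom ∘ Points.ofScheme H from
    funext fun t => Points.ofPt_eq_map_ofScheme _ t]
  exact (bijective_map_iso e.hom).comp (Points.schemeEquiv H).bijective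

/-- The map from the spectrum of `E ⊗ L` to the product. -/
def graph {X : Sp (Spec (CommRingCat.of k))} {L : Type u} [Field L] [Algebra k L]
    (gη : (yon _).obj (spec k L) ⟶ X) (E : Type u) [Field E] [Algebra k E] :
    (yon _).obj (spec k (E ⊗[k] L)) ⟶ X ⨯ (yon _).obj (spec k E) :=
  prod.lift ((yon _).map (specHom (Algebra.TensorProduct.includeRight : L →ₐ[k] E ⊗[k] L)) ≫ gη)
    ((yon _).map (specHom (Algebra.TensorProduct.includeLeft : E →ₐ[k] E ⊗[k] L)))

theorem comp_graph {X : Sp (Spec (CommRingCat.of k))} {L : Type u} [Field L] [Algebra k L]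
    (gη : (yon _).obj (spec k L) ⟶ X) {E : Type u} [Field E] [Algebra k E] {B : Type u} [CommRing B]
    [Algebra k B] (r : E ⊗[k] L →ₐ[k] B) :
    (yon _).map (specHom r) ≫ graph gη E =
      prod.lift ((yon _).map (specHom (r.comp Algebra.TensorProduct.includeRight)) ≫ gη)
        ((yon _).map (specHom (r.comp Algebra.TensorProduct.includeLeft))) := by
  simp only [graph, prod.comp_lift, ← Functor.map_comp_assoc, ← Functor.map_comp, ← PurTrans14.specHom_comp]

theorem specHom_closedPoint {B M : Type u} [CommRing B] [Algebra k B] [Field M] [Algebra k M]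
    (r : B →ₐ[k] M) :
    ((specHom r).left (IsLocalRing.closedPoint M) : PrimeSpectrum B).asIdeal = RingHom.ker r.toRingHom := by
  show Ideal.comap r.toRingHom (IsLocalRing.maximalIdeal M) = _
  rw [IsLocalRing.maximalIdeal_eq_bot, RingHom.ker_eq_comap_bot]

/-- A monomorphic point gives points of the product injectively. -/
theorem injective_graph {X : Sp (Spec (CommRingCat.of k))} {L : Type u} [Field L] [Algebra k L]
    (gη : (yon _).obj (spec k L) ⟶ X) [Mono gη] (E : Type u) [Field E] [Algebra k E] :
    Function.Injective (fun P : PrimeSpectrum (E ⊗[k] L) => Points.ofPt (graph gη E) P) := by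
  have key : ∀ P : PrimeSpectrum (E ⊗[k] L),
      (specHom (IsScalarTower.toAlgHom k (E ⊗[k] L) P.asIdeal.ResidueField)).left
        (IsLocalRing.closedPoint P.asIdeal.ResidueField) = P := fun P => by
    refine PrimeSpectrum.ext ((specHom_closedPoint _).trans ?_)
    exact Ideal.ext fun z => Ideal.algebraMap_residueField_eq_zero
  intro P Q h
  change Points.ofPt (graph gη E) P = Points.ofPt (graph gη E) Q at h
  rw [← key P, ← key Q, ← ofPt_map_comp, ← ofPt_map_comp] at h
  obtain ⟨M, _, _, α, β, hab⟩ := exists_common_field _ _ h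
  let a := α.comp (IsScalarTower.toAlgHom k (E ⊗[k] L) P.asIdeal.ResidueField)
  let b := β.comp (IsScalarTower.toAlgHom k (E ⊗[k] L) Q.asIdeal.ResidueField)
  have e : (yon _).map (specHom a) ≫ graph gη E = (yon _).map (specHom b) ≫ graph gη E := by
    rw [PurTrans14.specHom_comp, PurTrans14.specHom_comp, Functor.map_comp, Functor.map_comp,
      Category.assoc, Category.assoc]
    exact hab
  rw [comp_graph, comp_graph] at e
  have e₁ := congrArg (· ≫ Limits.prod.fst) e
  have e₂ := congrArg (· ≫ Limits.prod.snd) e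
  simp only [prod.lift_fst, prod.lift_snd] at e₁ e₂
  have i₁ : ∀ {B C : Type u} [CommRing B] [CommRing C] [Algebra k B] [Algebra k C] (φ ψ : B →ₐ[k] C),
      specHom φ = specHom ψ → φ = ψ := fun φ ψ h =>
    AlgHom.coe_ringHom_injective (congrArg CommRingCat.Hom.hom (Spec.map_injective (congrArg Over.Hom.left h)))
  have hl := i₁ _ _ ((yon _).map_injective e₂)
  have hr := i₁ _ _ ((yon _).map_injective ((cancel_mono gη).1 e₁))
  have hab' : a = b := Algebra.TensorProduct.ext hl hr
  refine PrimeSpectrum.ext (Ideal.ext fun z => ?_)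
  rw [← Ideal.algebraMap_residueField_eq_zero (I := P.asIdeal),
    ← Ideal.algebraMap_residueField_eq_zero (I := Q.asIdeal), ← map_eq_zero α.toRingHom, ← map_eq_zero β.toRingHom]
  show a z = 0 ↔ b z = 0
  rw [hab']

end

end Groth.Agent.GrpScheme14
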