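import Mathlib.RingTheory.NoetherNormalization
import Groth.Agent.Lib.PurTrans14.Algebra
import Groth.Agent.Lib.GeomIrr18.Alg

/-!
# Algebra for descending along geometrically irreducible points
-/

universe u

open scoped TensorProduct

namespace Groth.Agent.GrpScheme14

set_option maxHeartbeats 1000000

variable {k : Type u} [Field k]

/-- The tensor product with a field with one prime over `kb` has a least prime. -/
theorem exists_least_prime {kb Ω L : Type u} [Field kb] [IsAlgClosed kb] [Algebra k kb] [Field Ω]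
    [Algebra k Ω] [Algebra kb Ω] [IsScalarTower k kb Ω] [Field L] [Algebra k L]
    [Subsingleton (PrimeSpectrum (kb ⊗[k] L))] :
    ∃ P : PrimeSpectrum (Ω ⊗[k] L), ∀ Q, P.asIdeal ≤ (Q : PrimeSpectrum (Ω ⊗[k] L)).asIdeal := by
  obtain ⟨n⟩ : Nonempty (PrimeSpectrum (kb ⊗[k] L)) := inferInstance
  have hn : n.asIdeal.IsMaximal := by
    obtain ⟨m, hm⟩ := Ideal.exists_maximal (kb ⊗[k] L)
    rw [show n = ⟨m, hm.isPrime⟩ from Subsingleton.elim _ _]
    exact hm
  let F := (kb ⊗[k] L) ⧸ n.asIdeal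
  let : Field F := Ideal.Quotient.field _
  let iL : L →ₐ[k] F := ((Ideal.Quotient.mkₐ kb n.asIdeal).restrictScalars k).comp Algebra.TensorProduct.includeRight
  let Ψ : Ω ⊗[k] L →ₐ[k] Ω ⊗[kb] F := Algebra.TensorProduct.lift
    ((Algebra.TensorProduct.includeLeft : Ω →ₐ[kb] Ω ⊗[kb] F).restrictScalars k)
    (((Algebra.TensorProduct.includeRight : F →ₐ[kb] Ω ⊗[kb] F).restrictScalars k).comp iL)
    (fun _ _ => Commute.all _ _)
  have hirr : IrreducibleSpace (PrimeSpectrum (Ω ⊗[kb] F)) := GeomIrr.irreducibleSpace_tensor_field Ω F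
  obtain ⟨P₁, hP₁⟩ : ∃ P₁ : PrimeSpectrum (Ω ⊗[kb] F), ∀ Q, P₁.asIdeal ≤ (Q : PrimeSpectrum _).asIdeal :=
    ⟨⟨nilradical _, PrimeSpectrum.irreducibleSpace_iff_isPrime_nilradical.1 hirr⟩, fun Q => nilradical_le_prime _⟩
  refine ⟨PrimeSpectrum.comap Ψ.toRingHom P₁, fun Q => ?_⟩
  let M := Q.asIdeal.ResidueField
  let π : Ω ⊗[k] L →ₐ[k] M := IsScalarTower.toAlgHom k (Ω ⊗[k] L) M
  let α : Ω →ₐ[k] M := π.comp Algebra.TensorProduct.includeLeft
  have hkb : ∀ c : kb, algebraMap kb M c = α (algebraMap kb Ω c) := fun c => by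
    rw [IsScalarTower.algebraMap_apply kb (Ω ⊗[k] L) M]
    rfl
  let α' : Ω →ₐ[kb] M := { α with commutes' := fun c => (hkb c).symm }
  let χ : kb ⊗[k] L →ₐ[kb] M := Algebra.TensorProduct.lift (Algebra.ofId kb M)
    (π.comp Algebra.TensorProduct.includeRight) (fun _ _ => Commute.all _ _)
  have hχ : RingHom.ker χ.toRingHom = n.asIdeal :=
    congrArg PrimeSpectrum.asIdeal (Subsingleton.elim (⟨_, RingHom.ker_isPrime χ.toRingHom⟩ : PrimeSpectrum _) n)
  let χ' : F →ₐ[kb] M := Ideal.Quotient.liftₐ n.asIdeal χ fun a ha => by rw [← hχ] at ha; exact ha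
  let G : Ω ⊗[kb] F →ₐ[kb] M := Algebra.TensorProduct.lift α' χ' (fun _ _ => Commute.all _ _)
  have hG : ∀ z, G (Ψ z) = π z := fun z => by
    induction z using TensorProduct.induction_on with
    | zero => simp
    | add z z' hz hz' => simp [map_add, hz, hz']
    | tmul ω l =>
      have e1 : Ψ (ω ⊗ₜ[k] l) = ω ⊗ₜ[kb] iL l := by
        show (Algebra.TensorProduct.lift _ _ _) (ω ⊗ₜ[k] l) = _
        rw [Algebra.TensorProduct.lift_tmul]
        show (ω ⊗ₜ[kb] (1 : F)) * ((1 : Ω) ⊗ₜ[kb] iL l) = _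
        rw [Algebra.TensorProduct.tmul_mul_tmul, mul_one, one_mul]
      rw [e1]
      refine (Algebra.TensorProduct.lift_tmul α' χ' (fun _ _ => Commute.all _ _) ω (iL l)).trans ?_
      show α ω * χ ((1 : kb) ⊗ₜ[k] l) = _
      rw [show χ ((1 : kb) ⊗ₜ[k] l) = π ((1 : Ω) ⊗ₜ[k] l) from
        (Algebra.TensorProduct.lift_tmul _ _ _ _ _).trans (by rw [map_one, one_mul]; rfl)]
      show π (ω ⊗ₜ[k] 1) * π (1 ⊗ₜ[k] l) = _
      rw [← map_mul, Algebra.TensorProduct.tmul_mul_tmul, mul_one, one_mul]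
  intro z hz
  have h : Ψ z ∈ RingHom.ker G.toRingHom := hP₁ ⟨_, RingHom.ker_isPrime G.toRingHom⟩ hz
  have h' : π z = 0 := (hG z).symm.trans h
  exact (Ideal.algebraMap_residueField_eq_zero (I := Q.asIdeal)).1 h'

/-- An element of `Ω ⊗ A` nonzero at the least prime avoids every prime over some closed point. -/
theorem exists_closedPoint_irred {Ω L Q : Type u} [Field Ω] [Algebra k Ω] [Field L] [Algebra k L] [Field Q]
    [Algebra k Q] (A : Subalgebra k L) (hA : A.FG) (β : Ω ⊗[k] L →ₐ[k] Q)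
    (hβ : ∀ P : PrimeSpectrum (Ω ⊗[k] L), RingHom.ker β.toRingHom ≤ P.asIdeal)
    (f : Ω ⊗[k] A) (hf : β (Algebra.TensorProduct.map (AlgHom.id k Ω) A.val f) ≠ 0) :
    ∃ (k' : Type u) (_ : Field k') (_ : Algebra k k') (a : A →ₐ[k] k'), Module.Finite k k' ∧
      IsUnit (Algebra.TensorProduct.map (AlgHom.id k Ω) a f) := by
  classical
  have : Algebra.FiniteType k A := (Subalgebra.fg_iff_finiteType A).1 hA
  obtain ⟨s, g₀, hg₀inj, hg₀fin⟩ := exists_finite_inj_algHom_of_fg k A
  let R := MvPolynomial (ULift.{u} (Fin s)) k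
  let eR : R ≃ₐ[k] MvPolynomial (Fin s) k := MvPolynomial.renameEquiv k Equiv.ulift
  let g : R →ₐ[k] A := g₀.comp eR.toAlgHom
  have hginj : Function.Injective g := hg₀inj.comp eR.injective
  have hgfin : g.Finite := hg₀fin.comp (AlgHom.Finite.of_surjective eR.toAlgHom eR.surjective)
  let B := Ω ⊗[k] R
  let Ag := Algebra.TensorProduct.map (AlgHom.id Ω Ω) g
  let inc := Algebra.TensorProduct.map (AlgHom.id k Ω) A.val
  have hincinj : Function.Injective inc :=
    Module.Flat.lTensor_preserves_injective_linearMap (M := Ω) A.val.toLinearMap Subtype.val_injective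
  have hAginj : Function.Injective Ag :=
    Module.Flat.lTensor_preserves_injective_linearMap (M := Ω) g.toLinearMap hginj
  let : Algebra R A := g.toRingHom.toAlgebra
  have : Algebra.IsIntegral R A := ⟨(RingHom.Finite.to_isIntegral hgfin)⟩
  have hAgint : Ag.toRingHom.IsIntegral := fun z => by
    induction z using TensorProduct.induction_on with
    | zero => exact RingHom.isIntegralElem_zero _
    | add z z' hz hz' => exact RingHom.IsIntegralElem.add _ hz hz'
    | tmul ω y =>
      rw [show ω ⊗ₜ[k] y = Ag (ω ⊗ₜ 1) * (1 ⊗ₜ y) by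
        show _ = (Algebra.TensorProduct.map (AlgHom.id Ω Ω) g) (ω ⊗ₜ 1) * _
        rw [Algebra.TensorProduct.map_tmul, map_one, Algebra.TensorProduct.tmul_mul_tmul, mul_one, one_mul]
        rfl]
      refine RingHom.IsIntegralElem.mul _ (RingHom.isIntegralElem_map _) ?_
      obtain ⟨p, hp, hp0⟩ := RingHom.Finite.to_isIntegral hgfin y
      refine ⟨p.map (Algebra.TensorProduct.includeRight (R := k) (A := Ω)).toRingHom, hp.map _, ?_⟩
      rw [Polynomial.eval₂_map]
      have e : (Ag.toRingHom.comp (Algebra.TensorProduct.includeRight (R := k) (A := Ω) (B := R)).toRingHom) =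
          (Algebra.TensorProduct.includeRight (R := k) (A := Ω) (B := A)).toRingHom.comp g.toRingHom :=
        RingHom.ext fun r => by simp [Ag]
      rw [e]
      have := congrArg (Algebra.TensorProduct.includeRight (R := k) (A := Ω) (B := A)).toRingHom hp0
      rw [Polynomial.hom_eval₂, map_zero] at this
      exact this
  let : Algebra B (Ω ⊗[k] A) := Ag.toRingHom.toAlgebra
  have : Algebra.IsIntegral B (Ω ⊗[k] A) := ⟨hAgint⟩
  have : IsDomain B := (MvPolynomial.algebraTensorAlgEquiv k Ω (σ := ULift.{u} (Fin s))).toMulEquiv.isDomain _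
  obtain ⟨b, hb, hb0⟩ : ∃ b : B, b ≠ 0 ∧ Ag b ∈ Ideal.span {f} := by
    by_contra hcon
    push_neg at hcon
    have hcomap : (⊥ : Ideal B) = (Ideal.span {f}).comap (algebraMap B (Ω ⊗[k] A)) := by
      refine (eq_bot_iff.2 fun b hb => ?_).symm
      by_contra hb'
      exact hcon b hb' hb
    obtain ⟨q, hqf, hq, hqc⟩ := Ideal.exists_ideal_over_prime_of_isIntegral (⊥ : Ideal B) (Ideal.span {f}) hcomap.ge
    let κ := (β.comp inc).toRingHom
    have hP : RingHom.ker κ ≤ q := fun z hz => by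
      have h1 : IsNilpotent (inc z) := by
        rw [← mem_nilradical, nilradical, Ideal.radical_eq_sInf, Ideal.mem_sInf]
        rintro J ⟨-, hJ⟩
        exact hβ ⟨J, hJ⟩ hz
      obtain ⟨m, hm⟩ := h1
      refine hq.mem_of_pow_mem m ?_
      rw [show z ^ m = 0 from hincinj (by rw [map_pow, hm, map_zero])]
      exact zero_mem _
    have hPp : (RingHom.ker κ).IsPrime := RingHom.ker_isPrime κ
    have hPc : (RingHom.ker κ).comap (algebraMap B (Ω ⊗[k] A)) = ⊥ := by
      refine eq_bot_iff.2 fun b hb => ?_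
      rw [← hqc]
      exact hP hb
    have heq : RingHom.ker κ = q := by
      rcases hP.eq_or_lt with h | h
      · exact h
      · exfalso
        have := Ideal.IsIntegral.comap_lt_comap (R := B) h
        rw [hPc, hqc] at this
        exact lt_irrefl _ this
    exact hf (show f ∈ RingHom.ker κ from heq ▸ hqf (Ideal.mem_span_singleton_self f))
  obtain ⟨c, hc⟩ := Ideal.mem_span_singleton'.1 hb0
  let eT := MvPolynomial.algebraTensorAlgEquiv k Ω (σ := ULift.{u} (Fin s))
  obtain ⟨t, ht⟩ := PurTrans14.exists_aeval_ne_zero (k := k) (eT b) (fun h => hb (eT.injective (by rw [map_zero]; exact h)))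
  obtain ⟨μ, hμ, hcop⟩ : ∃ μ : Polynomial k, Irreducible μ ∧ IsCoprime (μ.map (algebraMap k Ω))
      (MvPolynomial.aeval (fun i => (t i).map (algebraMap k Ω)) (eT b)) := PurTrans14.exists_irreducible_isCoprime _ ht
  haveI : Fact (Irreducible μ) := ⟨hμ⟩
  let k₁ := AdjoinRoot μ
  haveI : Module.Finite k k₁ := (AdjoinRoot.powerBasis hμ.ne_zero).finite
  let evT : R →ₐ[k] k₁ := MvPolynomial.aeval fun i => AdjoinRoot.mk μ (t i)
  -- lift the point to `A`
  have : FaithfulSMul R A := (faithfulSMul_iff_algebraMap_injective R A).2 hginj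
  have : (RingHom.ker evT).IsPrime := RingHom.ker_isPrime _
  obtain ⟨p, -, hp, hpc⟩ := Ideal.exists_ideal_over_prime_of_isIntegral (RingHom.ker evT) (⊥ : Ideal A)
    (by rw [show (⊥ : Ideal A).comap (algebraMap R A) = ⊥ from (RingHom.injective_iff_ker_eq_bot _).1 hginj]; exact bot_le)
  have hmaxR : (RingHom.ker evT).IsMaximal := by
    have h1 : (RingHom.ker evT).IsPrime := RingHom.ker_isPrime _
    let q := R ⧸ RingHom.ker evT
    have : Algebra.IsIntegral k q :=
      Algebra.IsIntegral.of_injective (Ideal.kerLiftAlg evT) (Ideal.kerLiftAlg_injective evT)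
    have : IsDomain q := Ideal.Quotient.isDomain _
    exact Ideal.Quotient.maximal_of_isField _ (isField_of_isIntegral_of_isField' (R := k) (Field.toIsField k))
  haveI hpmax : p.IsMaximal := by
    haveI := hp
    exact Ideal.isMaximal_of_isIntegral_of_isMaximal_comap p (hpc ▸ hmaxR)
  let k' := A ⧸ p
  let : Field k' := Ideal.Quotient.field p
  have : Algebra.FiniteType k k' := Algebra.FiniteType.of_surjective (Ideal.Quotient.mkₐ k p)
    (Ideal.Quotient.mkₐ_surjective k p)
  have : Module.Finite k k' := finite_of_finite_type_of_isJacobsonRing k k'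
  let a := Ideal.Quotient.mkₐ k p
  -- evaluation of `b`
  let ρ : Ω ⊗[k] k₁ := 1 ⊗ₜ AdjoinRoot.root μ
  let evX : Polynomial Ω →ₐ[Ω] Ω ⊗[k] k₁ := Polynomial.aeval ρ
  have evX_map : ∀ p : Polynomial k, evX (p.map (algebraMap k Ω)) = (1 : Ω) ⊗ₜ AdjoinRoot.mk μ p := fun p => by
    show Polynomial.aeval ρ _ = _
    rw [Polynomial.aeval_map_algebraMap, show ρ = Algebra.TensorProduct.includeRight (AdjoinRoot.root μ) from rfl,
      Polynomial.aeval_algHom_apply, AdjoinRoot.aeval_eq]
    rfl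
  let Ev := Algebra.TensorProduct.map (AlgHom.id Ω Ω) evT
  have hu : IsUnit (Ev b) := by
    have hEv : Ev b = evX (MvPolynomial.aeval (fun i => (t i).map (algebraMap k Ω)) (eT b)) := by
      refine AlgHom.congr_fun (φ₁ := Ev) (φ₂ := (evX.comp (MvPolynomial.aeval fun i => (t i).map (algebraMap k Ω))).comp eT.toAlgHom) ?_ b
      apply Algebra.TensorProduct.ext
      · exact Subsingleton.elim _ _
      · apply MvPolynomial.algHom_ext
        intro i
        have hX : eT ((1 : Ω) ⊗ₜ[k] (MvPolynomial.X i : R)) = MvPolynomial.X i := by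
          rw [← eT.apply_symm_apply (MvPolynomial.X i), MvPolynomial.algebraTensorAlgEquiv_symm_X]
        show (Algebra.TensorProduct.map (AlgHom.id Ω Ω) evT) ((1 : Ω) ⊗ₜ[k] (MvPolynomial.X i : R)) =
          evX (MvPolynomial.aeval _ (eT ((1 : Ω) ⊗ₜ[k] (MvPolynomial.X i : R))))
        rw [hX, MvPolynomial.aeval_X, evX_map, Algebra.TensorProduct.map_tmul, map_one, MvPolynomial.aeval_X]
    obtain ⟨x, y, hxy⟩ := hcop
    have e := congrArg evX hxy
    rw [map_add, map_mul, map_mul, evX_map, AdjoinRoot.mk_self, TensorProduct.tmul_zero, mul_zero,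
      zero_add, map_one, ← hEv] at e
    exact IsUnit.of_mul_eq_one _ ((mul_comm _ _).trans e)
  let E := R ⧸ RingHom.ker evT
  haveI := hmaxR
  let : Field E := Ideal.Quotient.field (RingHom.ker evT)
  let φ₁ : E →ₐ[k] k₁ := Ideal.kerLiftAlg evT
  let φ₂ : E →ₐ[k] k' := Ideal.Quotient.liftₐ _ (a.comp g) fun r hr => by
    show Ideal.Quotient.mk p (g r) = 0
    rw [Ideal.Quotient.eq_zero_iff_mem]
    show r ∈ p.comap (algebraMap R A)
    rw [hpc]; exact hr
  let : Algebra E k₁ := φ₁.toRingHom.toAlgebra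
  let : Algebra E k' := φ₂.toRingHom.toAlgebra
  have : IsScalarTower k E k₁ := IsScalarTower.of_algebraMap_eq fun c => (φ₁.commutes c).symm
  have : IsScalarTower k E k' := IsScalarTower.of_algebraMap_eq fun c => (φ₂.commutes c).symm
  have : Module.Finite E k' := Module.Finite.of_restrictScalars_finite k E k'
  have : Module.Finite k (k₁ ⊗[E] k') := Module.Finite.trans k₁ (k₁ ⊗[E] k')
  have : Nontrivial (k₁ ⊗[E] k') :=
    Algebra.TensorProduct.nontrivial_of_algebraMap_injective_of_isDomain E k₁ k'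
      (algebraMap E k₁).injective (algebraMap E k').injective
  obtain ⟨m, hm⟩ := Ideal.exists_maximal (k₁ ⊗[E] k')
  let M := (k₁ ⊗[E] k') ⧸ m
  let : Field M := Ideal.Quotient.field m
  let q : k₁ ⊗[E] k' →ₐ[k] M := Ideal.Quotient.mkₐ k m
  have : Module.Finite k M := Module.Finite.of_surjective q.toLinearMap (Ideal.Quotient.mkₐ_surjective k m)
  let i₁ : k₁ →ₐ[k] M := q.comp ((Algebra.TensorProduct.includeLeft : k₁ →ₐ[k] k₁ ⊗[E] k'))
  let i₂ : k' →ₐ[k] M := q.comp ((Algebra.TensorProduct.includeRight : k' →ₐ[E] k₁ ⊗[E] k').restrictScalars k)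
  refine ⟨M, inferInstance, inferInstance, i₂.comp a, inferInstance, ?_⟩
  have hfact : ∀ r, i₂ (a (g r)) = i₁ (evT r) := fun r => by
    show q ((1 : k₁) ⊗ₜ[E] algebraMap E k' (Ideal.Quotient.mk _ r)) =
      q (algebraMap E k₁ (Ideal.Quotient.mk _ r) ⊗ₜ[E] (1 : k'))
    exact congrArg q (Algebra.TensorProduct.tmul_one_eq_one_tmul (R := E) (A := k₁) (B := k') (Ideal.Quotient.mk _ r)).symm
  let Φ := Algebra.TensorProduct.map (AlgHom.id Ω Ω) i₁
  have hAb : Algebra.TensorProduct.map (AlgHom.id k Ω) (i₂.comp a) (Ag b) = Φ (Ev b) := by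
    refine AlgHom.congr_fun (φ₁ := (Algebra.TensorProduct.map (AlgHom.id k Ω) (i₂.comp a)).comp (Ag.restrictScalars k))
      (φ₂ := ((Φ.comp Ev).restrictScalars k)) ?_ b
    apply Algebra.TensorProduct.ext <;> ext <;> simp [Φ, Ev, Ag, hfact]
  rw [← hc, map_mul] at hAb
  exact (IsUnit.mul_iff.1 (hAb ▸ hu.map Φ)).2

end Groth.Agent.GrpScheme14
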