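import Groth.Agent.Lib.FieldSpread14.Basic
import Groth.Agent.Lib.AlgSpDecent.DenseOpen
import Groth.Agent.Lib.AlgSpDecent.Basic2
import Groth.Prelude.Def_AlgSpGpd
import Mathlib.RingTheory.Spectrum.Prime.Chevalley

/-!
# Separated group spaces over a field become schemes over an algebraic closure
-/

universe u

set_option backward.isDefEq.respectTransparency.types false
set_option backward.isDefEq.respectTransparency false
set_option linter.unusedVariables false

open CategoryTheory CategoryTheory.Limits AlgebraicGeometry Opposite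
open scoped TensorProduct
open MonoidalCategory MonObj

namespace Groth.Agent.GrpScheme14

open AlgSp Groth.Agent.AlgSpace Groth.Agent.AlgSpDecent Groth.Agent.FieldSpread14 Groth.Agent.LimSys14

noncomputable section

variable {k : Type u} [Field k]

theorem isQuasiSeparatedMor_of_mono {S : Scheme.{u}} {F G : Sp S} (i : F ⟶ G) [Mono i] :
    IsQuasiSeparatedMor i := by
  change RepWith @QuasiCompact (pullback.diagonal i)
  exact repWith_mono (Q := @QuasiCompact) (fun _ _ g (hg : IsIso g) => inferInstance)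
    (AlgSpDescent.repWith_isomorphisms_of_isIso (pullback.diagonal i))

/-- The system `X × Spec A` over the finitely generated subalgebras. -/
def bigSys (X : Sp (Spec (CommRingCat.of k))) (K : Type u) [Field K] [Algebra k K] :
    (Idx k K)ᵒᵖ ⥤ Sp (Spec (CommRingCat.of k)) :=
  sys k K ⋙ yon _ ⋙ prod.functor.obj X

/-- Its cone. -/
def bigCone (X : Sp (Spec (CommRingCat.of k))) (K : Type u) [Field K] [Algebra k K] :
    Cone (bigSys X K) :=
  (yon _ ⋙ prod.functor.obj X).mapCone (sysCone k K)

theorem bigSys_facts (X : AlgSp.Space (Spec (CommRingCat.of k))) (hqc : IsQuasiCompactSp X.obj)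
    (hqs : IsQuasiSeparatedSp X.obj) (K : Type u) [Field K] [Algebra k K] :
    (∀ i, IsAlgSpace ((bigSys X.obj K).obj i)) ∧
    (∀ (i j : (Idx k K)ᵒᵖ) (φ : i ⟶ j), IsAffineMor ((bigSys X.obj K).map φ)) ∧
    (∀ i, IsQuasiCompactSp ((bigSys X.obj K).obj i)) ∧
    (∀ i, IsQuasiSeparatedSp ((bigSys X.obj K).obj i)) ∧ Nonempty (IsLimit (bigCone X.obj K)) := by
  have : IsFiltered (Idx k K) := isFiltered_of_directed_le_nonempty _
  have : IsConnected (Idx k K)ᵒᵖ := IsCofiltered.isConnected _
  obtain ⟨hl⟩ := isLimit_sysCone k K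
  have : IsConnected (AsSmall.{u + 1} (Idx k K)ᵒᵖ) := isConnected_of_equivalent AsSmall.equiv
  have := prod_preservesConnectedLimits (J := AsSmall.{u + 1} (Idx k K)ᵒᵖ) X.obj
  have : PreservesLimitsOfShape (Idx k K)ᵒᵖ (prod.functor.obj X.obj) :=
    preservesLimitsOfShape_of_equiv AsSmall.equiv.symm _
  have hterm := isTerminalBase (S := Spec (CommRingCat.of k))
  have haff : ∀ i, IsAffineMor (hterm.from ((yon _).obj ((sys k K).obj i))) := fun i => by
    obtain ⟨f, hf⟩ := (yon _).map_surjective (hterm.from ((yon _).obj ((sys k K).obj i)))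
    rw [← hf]
    refine isAffineMor_iff_repWith.2 ((repWith_yon_map_iff _ _).2 ?_)
    have : IsAffine (Over.mk (𝟙 (Spec (CommRingCat.of k)))).left := inferInstanceAs (IsAffine (Spec _))
    have : IsAffine ((sys k K).obj i).left := inferInstanceAs (IsAffine (Spec _))
    exact (inferInstance : IsAffineHom f.left)
  have hD : ∀ i, IsAlgSpace ((bigSys X.obj K).obj i) := fun i =>
    isAlgSpace_prod X.property (IsAlgSpace.yon_obj _)
  have hfst : ∀ i, IsAffineMor (Limits.prod.fst : (bigSys X.obj K).obj i ⟶ X.obj) := fun i =>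
    isAffineMor_of_isPullback
      ((IsPullback.of_is_product' (Limits.prodIsProd X.obj ((yon _).obj ((sys k K).obj i))) hterm).flip) (haff i)
  refine ⟨hD, fun i j φ => ?_,
    fun i => isQuasiCompactSp_of_mor (hD i) X.property
      (isQuasiCompactMor_of_isAffineMor (hD i) X.property (hfst i)) hqc,
    fun i => isQuasiSeparatedSp_of_mor
      (isQuasiSeparatedMor_of_isAffineMor (hD i) X.property (hfst i)) hqs,
    ⟨isLimitOfPreserves (yon _ ⋙ prod.functor.obj X.obj) hl⟩⟩
  refine isAffineMor_of_isPullback (isPullback_prod_map_right ((yon _).map ((sys k K).map φ)) X.obj) ?_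
  refine isAffineMor_iff_repWith.2 ((repWith_yon_map_iff _ _).2 ?_)
  have : IsAffine ((sys k K).obj i).left := inferInstanceAs (IsAffine (Spec _))
  have : IsAffine ((sys k K).obj j).left := inferInstanceAs (IsAffine (Spec _))
  exact (inferInstance : IsAffineHom ((sys k K).map φ).left)

/-- A scheme neighbourhood of a rational point appears at a finite stage. -/
theorem exists_stage (X : AlgSp.Space (Spec (CommRingCat.of k))) (hqc : IsQuasiCompactSp X.obj)
    (hqs : IsQuasiSeparatedSp X.obj) {K : Type u} [Field K] [Algebra k K]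
    {H : Over (Spec (CommRingCat.of k))} (i : (yon _).obj H ⟶ X.obj ⨯ (yon _).obj (spec k K))
    (hi : RepWith @IsOpenImmersion i) (z : Points (X.obj ⨯ (yon _).obj (spec k K)))
    (hz : z ∈ Set.range (Points.map i)) :
    ∃ (A : Subalgebra k K) (_ : A.FG) (HA : Over (Spec (CommRingCat.of k)))
      (w : (yon _).obj HA ⟶ X.obj ⨯ (yon _).obj (spec k A)), RepWith @IsOpenImmersion w ∧
        Points.map (prod.map (𝟙 X.obj) ((yon _).map (specHom A.val))) z ∈ Set.range (Points.map w) := by
  have : IsFiltered (Idx k K) := isFiltered_of_directed_le_nonempty _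
  obtain ⟨hD, hDa, hDc, hDs, ⟨hc⟩⟩ := bigSys_facts X hqc hqs K
  let c := bigCone X.obj K
  obtain ⟨i₀, K₀, hK₀, hz₀, hsub⟩ := exists_cylinder hDa c hc hD
    (isOpen_range_map_of_openImmersion hi) (x := z) hz
  obtain ⟨K', hK', hK'c, hzK', hK'sub⟩ := exists_compact_nhd (hD i₀) _ hK₀ hz₀
  let ji := openSubι (X := (bigSys X.obj K).obj i₀) K'
  have hji : RepWith @IsOpenImmersion ji := repWith_openSubι hK'
  have hUsp : IsAlgSpace (openSub K') := isAlgSpace_of_representable hji.1 (hD i₀)
  have hUi : IsQuasiCompactSp (openSub K') := by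
    refine (isQuasiCompactSp_iff hUsp).2 ⟨?_⟩
    rw [(isEmbedding_map_of_immersion (hD i₀) (i := ji)
      ⟨hji.1, fun {T T'} g p q sq => show IsImmersion q.left from
        have : IsOpenImmersion q.left := hji.2 g p q sq
        inferInstance⟩).1.isCompact_iff, Set.image_univ, range_openSubι]
    exact hK'c
  have hUs : IsQuasiSeparatedSp (openSub K') :=
    isQuasiSeparatedSp_of_mor (isQuasiSeparatedMor_of_mono ji) (hDs i₀)
  let t : Over.forget i₀ ⋙ bigSys X.obj K ⟶ (Functor.const (Over i₀)).obj ((bigSys X.obj K).obj i₀) :=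
    overSp i₀
  let o : Over i₀ := Over.mk (𝟙 i₀)
  have haff : ∀ j : Over o, IsAffineMor (pullback.snd (t.app j.left) ji) := fun j =>
    isAffineMor_of_isPullback (IsPullback.of_hasPullback (t.app j.left) ji) (hDa _ _ j.left.hom)
  have halg : ∀ j : Over o, IsAlgSpace (pullback (t.app j.left) ji) := fun j =>
    isAlgSpace_pullback (hD i₀) (hD j.left.left) hUsp (IsPullback.of_hasPullback (t.app j.left) ji)
  have hcP : (pullback (c.π.app i₀) ji).obj.IsRepresentable := by
    have sqc := IsPullback.of_hasPullback (c.π.app i₀) ji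
    have hfst := repWith_of_isPullback sqc.flip hji
    obtain ⟨g, hg⟩ := exists_factor_of_range hi (pullback.fst (c.π.app i₀) ji) (by
      rintro _ ⟨y, rfl⟩
      refine hsub (hK'sub ?_)
      rw [← Points.map_comp, pullback.condition, Points.map_comp]
      exact (range_openSubι K').subset ⟨_, rfl⟩)
    have : Mono i := mono_of_repWith _
      (repWith_mono (fun _ _ u (_ : IsOpenImmersion u) => (inferInstance : Mono u)) hi)
    have sqg : IsPullback (𝟙 _) g (pullback.fst (c.π.app i₀) ji) i :=
      IsPullback.of_horiz_isIso_mono ⟨(Category.id_comp _).trans hg.symm⟩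
    obtain ⟨H', ⟨e'⟩⟩ := rep_of_isOpenImmersion (repWith_of_isPullback sqg hfst)
      (isRepresentable_of_iso_yon (Iso.refl ((yon _).obj H)))
    exact isRepresentable_of_iso_yon e'
  obtain ⟨G, ⟨eG⟩⟩ : ∃ G, Nonempty ((yon _).obj G ≅ pullback (c.π.app i₀) ji) :=
    ⟨_, ⟨isoOfRepresentableBy hcP.has_representation.choose_spec.some⟩⟩
  obtain ⟨l, hl⟩ := exists_isRepresentable
    (bcCone (restrictCone c i₀) t ji o (c.π.app i₀) (fun j => c.w j.hom)) halg
    (fun _ _ φ => isAffineMor_bcMap (fun (j j' : Over i₀) (ψ : j ⟶ j') => hDa j.left j'.left ψ.left) t ji o φ)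
    (fun j => isQuasiCompactSp_of_mor (halg j) hUsp (isQuasiCompactMor_of_isAffineMor (halg j) hUsp (haff j)) hUi)
    (fun j => isQuasiSeparatedSp_of_mor (isQuasiSeparatedMor_of_isAffineMor (halg j) hUsp (haff j)) hUs)
    (bcIsLimit (restrictCone c i₀) t ji o (c.π.app i₀) (fun j => c.w j.hom) (restrictIsLimit c hc i₀)) eG
  obtain ⟨HA, ⟨eA⟩⟩ : ∃ HA, Nonempty ((yon _).obj HA ≅ pullback (t.app l.left) ji) :=
    ⟨_, ⟨isoOfRepresentableBy hl.has_representation.choose_spec.some⟩⟩
  have sql := IsPullback.of_hasPullback (t.app l.left) ji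
  refine ⟨l.left.left.unop.1, l.left.left.unop.2, HA, eA.hom ≫ pullback.fst (t.app l.left) ji,
    (repWith_respectsIso_left eA.hom).2 (repWith_of_isPullback sql.flip hji), ?_⟩
  obtain ⟨y, hy⟩ : Points.map (c.π.app i₀) z ∈ Set.range (Points.map ji) := by
    rw [range_openSubι]; exact hzK'
  obtain ⟨x, hx, -⟩ := exists_point_lift sql (Points.map (c.π.app l.left.left) z) y (by
    rw [hy, ← Points.map_comp]
    exact congrArg (fun g => Points.map g z) (c.w l.left.hom))
  obtain ⟨x', rfl⟩ := (bijective_map_iso eA.hom).2 x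
  exact ⟨x', (Points.map_comp _ _ _).trans hx⟩

set_option maxHeartbeats 1600000

variable {kb : Type u} [Field kb] [Algebra k kb]

/-- A scheme neighbourhood over a big field gives one over an algebraically closed subfield. -/
theorem exists_nhd_of_nhd [IsAlgClosed kb] (X : AlgSp.Space (Spec (CommRingCat.of k)))
    (hqc : IsQuasiCompactSp X.obj) (hqs : IsQuasiSeparatedSp X.obj)
    {K : Type u} [Field K] [Algebra k K] [Algebra kb K] [IsScalarTower k kb K]
    (x : (yon _).obj (spec k K) ⟶ X.obj)
    {H : Over (Spec (CommRingCat.of k))} (i : (yon _).obj H ⟶ X.obj ⨯ (yon _).obj (spec k K))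
    (hi : RepWith @IsOpenImmersion i)
    (hz : Points.ofPt (prod.lift x (𝟙 _)) (IsLocalRing.closedPoint K) ∈ Set.range (Points.map i)) :
    ∃ (W : Over (Spec (CommRingCat.of k))) (w : (yon _).obj W ⟶ X.obj ⨯ (yon _).obj (spec k kb)),
      RepWith @IsOpenImmersion w ∧
        Points.ofPt (prod.lift x ((yon _).map (specHom (IsScalarTower.toAlgHom k kb K))))
          (IsLocalRing.closedPoint K) ∈ Set.range (Points.map w) := by
  obtain ⟨A, hA, HA, w, hw, hzA⟩ := exists_stage X hqc hqs i hi _ hz
  obtain ⟨s, hs⟩ := hA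
  let B : Subalgebra kb K := Algebra.adjoin kb (s : Set K)
  have hAB : A ≤ B.restrictScalars k := hs ▸ Algebra.adjoin_le (fun a ha => Algebra.subset_adjoin ha)
  let φ : A →ₐ[k] B :=
    { toFun := fun a => ⟨a.1, hAB a.2⟩
      map_one' := rfl
      map_mul' := fun _ _ => rfl
      map_zero' := rfl
      map_add' := fun _ _ => rfl
      commutes' := fun r => rfl }
  have : Algebra.FiniteType kb B := (Subalgebra.fg_iff_finiteType B).1 ⟨s, rfl⟩
  let T : Type u := B ⊗[kb] K
  let inl : K →ₐ[k] T :=
    (Algebra.TensorProduct.includeRight : K →ₐ[kb] B ⊗[kb] K).restrictScalars k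
  let inr : A →ₐ[k] T :=
    ((Algebra.TensorProduct.includeLeft : B →ₐ[kb] B ⊗[kb] K).restrictScalars k).comp φ
  let σ : (yon _).obj (spec k T) ⟶ X.obj ⨯ (yon _).obj (spec k A) :=
    prod.lift ((yon _).map (specHom inl) ≫ x) ((yon _).map (specHom inr))
  let O : Set (PrimeSpectrum T) := Points.ofPt σ ⁻¹' Set.range (Points.map w)
  have hO : IsOpen O := (isOpen_range_map_of_openImmersion hw).preimage (Points.continuous_ofPt σ)
  have comp : ∀ r : T →ₐ[k] K, r.comp inl = AlgHom.id k K →
      (yon _).map (specHom r) ≫ σ = prod.lift x ((yon _).map (specHom (r.comp inr))) := fun r hr => by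
    apply Limits.prod.hom_ext
    · rw [Category.assoc, prod.lift_fst, prod.lift_fst, ← Category.assoc, ← Functor.map_comp,
        show specHom r ≫ specHom inl = 𝟙 _ from ?_, CategoryTheory.Functor.map_id, Category.id_comp]
      refine Over.OverMorphism.ext ?_
      show Spec.map _ ≫ Spec.map _ = 𝟙 _
      rw [← Spec.map_comp, ← Spec.map_id]
      congr 1
      exact CommRingCat.hom_ext (congrArg AlgHom.toRingHom hr)
    · rw [Category.assoc, prod.lift_snd, prod.lift_snd, ← Functor.map_comp]
      congr 1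
      refine Over.OverMorphism.ext ?_
      show Spec.map _ ≫ Spec.map _ = Spec.map _
      rw [← Spec.map_comp]
      rfl
  let mu : T →ₐ[kb] K := Algebra.TensorProduct.lift B.val (AlgHom.id kb K) (fun _ _ => Commute.all _ _)
  have hmu : ∀ (y : B) (a : K), mu (y ⊗ₜ[kb] a) = (y : K) * a := fun y a => Algebra.TensorProduct.lift_tmul _ _ _ _ _
  have hne : O.Nonempty := by
    refine ⟨(specHom (mu.restrictScalars k)).left (IsLocalRing.closedPoint K), ?_⟩
    show Points.ofPt σ _ ∈ Set.range (Points.map w)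
    rw [← ofPt_map_comp, comp (mu.restrictScalars k) (AlgHom.ext fun a => (hmu 1 a).trans (by simp))]
    have e : (mu.restrictScalars k).comp inr = A.val := AlgHom.ext fun a => (hmu (φ a) 1).trans (by simp; rfl)
    rw [e]
    rw [show prod.lift x ((yon _).map (specHom A.val)) =
      prod.lift x (𝟙 _) ≫ prod.map (𝟙 X.obj) ((yon _).map (specHom A.val)) by simp]
    rw [← Points.map_ofPt]
    exact hzA
  let π : PrimeSpectrum T → PrimeSpectrum B :=
    PrimeSpectrum.comap (algebraMap B (B ⊗[kb] K))
  have hπ : IsOpen (π '' O) := PrimeSpectrum.isOpenMap_comap_algebraMap_tensorProduct_of_field O hO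
  have : IsJacobsonRing B := isJacobsonRing_of_finiteType (A := kb)
  obtain ⟨m, ⟨q, hq, rfl⟩, hm⟩ := nonempty_inter_closedPoints (Set.Nonempty.image π hne)
    hπ.isLocallyClosed
  rw [mem_closedPoints_iff, PrimeSpectrum.isClosed_singleton_iff_isMaximal] at hm
  let m : Ideal B := (π q).asIdeal
  let : Field (B ⧸ m) := Ideal.Quotient.field m
  have : Algebra.FiniteType kb (B ⧸ m) := Algebra.FiniteType.of_surjective (Ideal.Quotient.mkₐ kb m)
    (Ideal.Quotient.mkₐ_surjective kb m)
  have : Module.Finite kb (B ⧸ m) := finite_of_finite_type_of_isJacobsonRing kb (B ⧸ m)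
  let ev : (B ⧸ m) ≃ₐ[kb] kb := (AlgEquiv.ofBijective (Algebra.ofId kb (B ⧸ m))
    IsAlgClosed.algebraMap_bijective_of_isIntegral).symm
  let b : B →ₐ[kb] kb := ev.toAlgHom.comp (Ideal.Quotient.mkₐ kb m)
  let r : T →ₐ[kb] K := Algebra.TensorProduct.lift ((Algebra.ofId kb K).comp b)
    (AlgHom.id kb K) (fun _ _ => Commute.all _ _)
  have hr' : ∀ (y : B) (a : K), r (y ⊗ₜ[kb] a) = algebraMap kb K (b y) * a := fun y a =>
    Algebra.TensorProduct.lift_tmul _ _ _ _ _
  have key : ∀ z : T, z - (1 : B) ⊗ₜ[kb] (r z) ∈ q.asIdeal := fun z => by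
    induction z using TensorProduct.induction_on with
    | zero => simp
    | tmul y a =>
      have hy : y - algebraMap kb B (b y) ∈ m := by
        rw [← Ideal.Quotient.eq]
        apply ev.injective
        simp [b]
      have h2 : (y - algebraMap kb B (b y)) ⊗ₜ[kb] (1 : K) ∈ q.asIdeal := hy
      have h3 := q.asIdeal.mul_mem_left ((1 : B) ⊗ₜ[kb] a) h2
      rw [Algebra.TensorProduct.tmul_mul_tmul, _root_.mul_one, _root_.one_mul, TensorProduct.sub_tmul] at h3
      convert h3 using 2
      rw [hr', Algebra.algebraMap_eq_smul_one (R := kb) (A := B), TensorProduct.smul_tmul,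
        ← Algebra.smul_def]
    | add z z' hz hz' =>
      convert add_mem hz hz' using 1
      rw [map_add, TensorProduct.tmul_add]
      abel
  have hrsurj : Function.Surjective r := fun a => ⟨1 ⊗ₜ a, (hr' 1 a).trans (by simp)⟩
  have hker : RingHom.ker r.toRingHom = q.asIdeal := by
    refine (RingHom.ker_isMaximal_of_surjective r.toRingHom hrsurj).eq_of_le q.isPrime.ne_top fun z hz => ?_
    have hz' : r z = 0 := hz
    have := key z
    rwa [hz', TensorProduct.tmul_zero, sub_zero] at this
  have hpt : (specHom (r.restrictScalars k)).left (IsLocalRing.closedPoint K) = q := by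
    refine PrimeSpectrum.ext ?_
    show Ideal.comap r.toRingHom (IsLocalRing.maximalIdeal K) = q.asIdeal
    rw [IsLocalRing.maximalIdeal_eq_bot, ← hker, RingHom.ker_eq_comap_bot]
  have hmem : Points.ofPt σ q ∈ Set.range (Points.map w) := hq
  rw [← hpt, ← ofPt_map_comp, comp (r.restrictScalars k) (AlgHom.ext fun a => (hr' 1 a).trans (by simp))] at hmem
  let a : A →ₐ[k] kb := (b.restrictScalars k).comp φ
  have e : (r.restrictScalars k).comp inr = (IsScalarTower.toAlgHom k kb K).comp a :=
    AlgHom.ext fun y => (hr' (φ y) 1).trans (by simp [a])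
  rw [e, show specHom ((IsScalarTower.toAlgHom k kb K).comp a) =
      specHom (IsScalarTower.toAlgHom k kb K) ≫ specHom a from Over.OverMorphism.ext (by
        show Spec.map _ = Spec.map _ ≫ Spec.map _
        rw [← Spec.map_comp]
        rfl), Functor.map_comp] at hmem
  obtain ⟨g, hg⟩ := (yon _).map_surjective (w ≫ Limits.prod.snd)
  have sq₁ := (isPullback_prod_map_right ((yon _).map (specHom a)) X.obj).flip
  have sqW := IsPullback.of_hasPullback w (prod.map (𝟙 X.obj) ((yon _).map (specHom a)))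
  have sq₂ := sqW.paste_vert sq₁
  obtain ⟨eW⟩ : Nonempty ((yon _).obj (pullback g (specHom a)) ≅
      pullback w (prod.map (𝟙 X.obj) ((yon _).map (specHom a)))) := by
    have sq₃ := (IsPullback.of_hasPullback g (specHom a)).map (yon _)
    rw [hg] at sq₃
    exact ⟨sq₃.isoIsPullback _ _ sq₂⟩
  refine ⟨pullback g (specHom a), eW.hom ≫ pullback.snd w _,
    (repWith_respectsIso_left eW.hom).2 (repWith_of_isPullback sqW hw), ?_⟩
  obtain ⟨y, hy⟩ := hmem
  obtain ⟨y', -, hy'⟩ := exists_point_lift sqW y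
    (Points.ofPt (prod.lift x ((yon _).map (specHom (IsScalarTower.toAlgHom k kb K))))
      (IsLocalRing.closedPoint K)) (by
      rw [hy, Points.map_ofPt]
      congr 1
      simp)
  rw [map_comp_eq, (bijective_map_iso eW.hom).2.range_comp]
  exact ⟨y', hy'⟩

/-- The translation automorphisms of `G × T` and the scheme neighbourhoods they give. -/
theorem exists_translate {S : Scheme.{u}} (G : Over ((yon S).obj (Over.mk (𝟙 S)))) [GrpObj G]
    {T : Over S} (g u : (yon S).obj T ⟶ G.left) {H : Sp S} (i : H ⟶ G.left ⨯ (yon S).obj T)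
    (hi : RepWith @IsOpenImmersion i) (t : ↥T.left)
    (hu : Points.ofPt (prod.lift u (𝟙 _)) t ∈ Set.range (Points.map i)) :
    ∃ i' : H ⟶ G.left ⨯ (yon S).obj T, RepWith @IsOpenImmersion i' ∧
      Points.ofPt (prod.lift g (𝟙 _)) t ∈ Set.range (Points.map i') := by
  have hterm := isTerminalBase (S := S)
  let P := G.left ⨯ (yon S).obj T
  let T' : Over ((yon S).obj (Over.mk (𝟙 S))) := Over.mk (hterm.from ((yon S).obj T))
  let P' : Over ((yon S).obj (Over.mk (𝟙 S))) := Over.mk (hterm.from P)
  let f1 : P' ⟶ G := Over.homMk (Limits.prod.fst : P ⟶ G.left) (hterm.hom_ext _ _)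
  let f2 : P' ⟶ T' := Over.homMk (Limits.prod.snd : P ⟶ (yon S).obj T) (hterm.hom_ext _ _)
  let τ : (T' ⟶ G) → (P ⟶ P) := fun c => prod.lift (f1 * (f2 ≫ c)).left Limits.prod.snd
  let τ' : (T' ⟶ G) → (P' ⟶ P') := fun c => Over.homMk (τ c) (hterm.hom_ext _ _)
  have h1 : ∀ c, τ' c ≫ f1 = f1 * (f2 ≫ c) := fun c =>
    Over.OverMorphism.ext (prod.lift_fst _ _)
  have h2 : ∀ c, τ' c ≫ f2 = f2 := fun c => Over.OverMorphism.ext (prod.lift_snd _ _)
  have hcomp : ∀ c d, τ c ≫ τ d = τ (c * d) := fun c d => by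
    apply Limits.prod.hom_ext
    · have e : τ' c ≫ (f1 * (f2 ≫ d)) = f1 * (f2 ≫ (c * d)) := by
        rw [MonObj.comp_mul, h1, reassoc_of% h2, MonObj.comp_mul, _root_.mul_assoc]
      simp only [τ, Category.assoc, prod.lift_fst]
      exact congrArg Over.Hom.left e
    · simp [τ]
  have hone : τ 1 = 𝟙 P := by
    apply Limits.prod.hom_ext
    · simp only [τ, prod.lift_fst, Category.id_comp, MonObj.comp_one, _root_.mul_one]
      rfl
    · simp [τ]
  let gh : T' ⟶ G := Over.homMk g (hterm.hom_ext _ _)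
  let uh : T' ⟶ G := Over.homMk u (hterm.hom_ext _ _)
  let c := gh⁻¹ * uh
  let e : P ≅ P :=
    { hom := τ c, inv := τ c⁻¹
      hom_inv_id := by rw [hcomp, mul_inv_cancel, hone]
      inv_hom_id := by rw [hcomp, inv_mul_cancel, hone] }
  let s' : T' ⟶ P' := Over.homMk (prod.lift g (𝟙 _)) (hterm.hom_ext _ _)
  have s1 : s' ≫ f1 = gh := Over.OverMorphism.ext (prod.lift_fst _ _)
  have s2 : s' ≫ f2 = 𝟙 _ := Over.OverMorphism.ext (prod.lift_snd _ _)
  have hs : prod.lift g (𝟙 _) ≫ e.hom = prod.lift u (𝟙 ((yon S).obj T)) := by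
    apply Limits.prod.hom_ext
    · have e' : s' ≫ (f1 * (f2 ≫ c)) = uh := by
        rw [MonObj.comp_mul, s1, reassoc_of% s2, mul_inv_cancel_left]
      simp only [e, τ, Category.assoc, prod.lift_fst]
      exact congrArg Over.Hom.left e'
    · simp [e, τ]
  refine ⟨i ≫ e.inv, (repWith_respectsIso_right e.symm.hom).2 hi, ?_⟩
  rw [map_comp_eq, Set.range_comp]
  refine ⟨_, hu, ?_⟩
  rw [← hs, Points.map_ofPt, Category.assoc, e.hom_inv_id, Category.comp_id]

/-- A separated group space over a field is a scheme over an algebraic closure. -/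
theorem rep_bc_of_group [IsAlgClosed kb] (G : Over ((yon (Spec (CommRingCat.of k))).obj (Over.mk (𝟙 _))))
    [GrpObj G] (hG : IsAlgSpace G.left) (hqs : IsQuasiSeparatedSp G.left) :
    (G.left ⨯ (yon _).obj (spec k kb)).obj.IsRepresentable := by
  let P := G.left ⨯ (yon (Spec (CommRingCat.of k))).obj (spec k kb)
  have hdec := isDecent_of_isQuasiSeparatedSp hG hqs
  obtain ⟨U, j, hj, hUrep, hUd⟩ := exists_dense_of_isDecent ⟨G.left, hG⟩ hdec
  have hne : Nonempty (Points G.left) :=
    ⟨Points.ofPt (S := Spec (CommRingCat.of k)) (T := Over.mk (𝟙 _)) (η[G]).left (IsLocalRing.closedPoint k)⟩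
  obtain ⟨_, ⟨u₀, rfl⟩⟩ := hUd.nonempty
  induction u₀ using Points.ind with | h pu =>
  have cov : ∀ z : Points P, ∃ (H : Over (Spec (CommRingCat.of k))) (w : (yon _).obj H ⟶ P),
      RepWith @IsOpenImmersion w ∧ z ∈ Set.range (Points.map w) := by
    intro z
    induction z using Points.ind with | h p =>
    obtain ⟨g₀, hg₀⟩ := (yon _).map_surjective (p.toHom ≫ Limits.prod.snd)
    let φ₁ : k →+* p.K := (Spec.preimage p.str).hom
    let φ₂ : k →+* pu.K := (Spec.preimage pu.str).hom
    let ψ : kb →+* p.K := (Spec.preimage (show Spec (CommRingCat.of p.K) ⟶ Spec (CommRingCat.of kb) from g₀.left)).hom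
    have hψ : ψ.comp (algebraMap k kb) = φ₁ := by
      have h : CommRingCat.ofHom (algebraMap k kb) ≫ CommRingCat.ofHom ψ = Spec.preimage p.str := by
        apply Spec.map_injective
        rw [Spec.map_comp, Spec.map_preimage]
        show Spec.map (Spec.preimage _) ≫ _ = _
        rw [Spec.map_preimage]
        exact Over.w g₀
      exact congrArg CommRingCat.Hom.hom h
    obtain ⟨K, hK, i₁, i₂, hi⟩ := FieldPt.exists_amalgamation φ₁ φ₂
    let : Algebra kb K := (i₁.comp ψ).toAlgebra
    let : Algebra k K := ((algebraMap kb K).comp (algebraMap k kb)).toAlgebra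
    have : IsScalarTower k kb K := IsScalarTower.of_algebraMap_eq fun _ => rfl
    have hk₁ : algebraMap k K = i₁.comp φ₁ := by
      rw [← hψ]; rfl
    let a : spec k K ⟶ p.pt := Over.homMk (Spec.map (CommRingCat.ofHom i₁)) (by
      show _ ≫ p.str = Spec.map _
      rw [← Spec.map_preimage p.str, ← Spec.map_comp, hk₁]
      rfl)
    let b : spec k K ⟶ pu.pt := Over.homMk (Spec.map (CommRingCat.ofHom i₂)) (by
      show _ ≫ pu.str = Spec.map _
      rw [← Spec.map_preimage pu.str, ← Spec.map_comp, hk₁, hi]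
      rfl)
    let x := (yon _).map a ≫ p.toHom ≫ Limits.prod.fst
    let y := (yon _).map b ≫ pu.toHom ≫ j.hom
    have hzp : Points.ofPt (prod.lift x ((yon _).map (specHom (IsScalarTower.toAlgHom k kb K))))
        (IsLocalRing.closedPoint K) = Points.mk p := by
      rw [show prod.lift x ((yon _).map (specHom (IsScalarTower.toAlgHom k kb K))) =
          (yon _).map a ≫ p.toHom from ?_, ofPt_map_comp, Points.ofPt_toHom]
      apply Limits.prod.hom_ext
      · simp [x]
      · rw [prod.lift_snd, Category.assoc, ← hg₀, ← Functor.map_comp]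
        congr 1
        refine Over.OverMorphism.ext ?_
        show Spec.map _ = Spec.map _ ≫ g₀.left
        conv_rhs => rw [← Spec.map_preimage g₀.left, ← Spec.map_comp]
        rfl
    let jK := prod.map j.hom (𝟙 ((yon (Spec (CommRingCat.of k))).obj (spec k K)))
    have hjK : RepWith @IsOpenImmersion jK := repWith_of_isPullback (isPullback_prod_map_left j.hom _) hj
    obtain ⟨i, hiopen, hix⟩ := exists_translate G x y jK hjK (IsLocalRing.closedPoint K) (by
      rw [show prod.lift y (𝟙 _) = prod.lift ((yon _).map b ≫ pu.toHom) (𝟙 _) ≫ jK by simp [jK, y],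
        ← Points.map_ofPt]
      exact ⟨_, rfl⟩)
    -- cut down to a compact piece
    obtain ⟨V, hV, hVc, hzV, -⟩ := exists_compact_nhd hG
      (Points.ofPt x (IsLocalRing.closedPoint K)) isOpen_univ (Set.mem_univ _)
    have hι := repWith_openSubι hV
    let XV : AlgSp.Space (Spec (CommRingCat.of k)) :=
      ⟨openSub V, isAlgSpace_of_representable hι.1 hG⟩
    have hqcV : IsQuasiCompactSp XV.obj := by
      refine (isQuasiCompactSp_iff XV.property).2 ⟨?_⟩
      rw [(isEmbedding_map_of_immersion hG (i := openSubι V)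
        ⟨hι.1, fun {T T'} g p q sq => show IsImmersion q.left from
          have : IsOpenImmersion q.left := hι.2 g p q sq
          inferInstance⟩).1.isCompact_iff, Set.image_univ, range_openSubι]
      exact hVc
    have hqsV : IsQuasiSeparatedSp XV.obj :=
      isQuasiSeparatedSp_of_mor (isQuasiSeparatedMor_of_mono (openSubι V)) hqs
    have hsub : Set.range (Points.map x) ⊆ V := by
      rintro _ ⟨q, rfl⟩
      obtain ⟨q, rfl⟩ := (Points.schemeEquiv _).surjective q
      show Points.map x (Points.ofScheme _ q) ∈ V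
      rw [← Points.ofPt_eq_map_ofScheme]
      have : Subsingleton ↥(spec k K).left := inferInstanceAs (Subsingleton (PrimeSpectrum K))
      rwa [Subsingleton.elim q (IsLocalRing.closedPoint K)]
    obtain ⟨xV, hxV⟩ := exists_factor_openSub (W := V) x hsub
    have sqK := isPullback_prod_map_left (openSubι V) ((yon _).obj (spec k K))
    have hιK := repWith_of_isPullback sqK hι
    have hU : (U.obj ⨯ (yon _).obj (spec k K)).obj.IsRepresentable := by
      obtain ⟨U', ⟨eU⟩⟩ : ∃ U', Nonempty ((yon _).obj U' ≅ U.obj) :=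
        ⟨_, ⟨isoOfRepresentableBy hUrep.has_representation.choose_spec.some⟩⟩
      exact isRepresentable_of_iso_yon (asIso (prodComparison (yon _) U' (spec k K)) ≪≫ prod.mapIso eU (Iso.refl _))
    have sqi := IsPullback.of_hasPullback i (prod.map (openSubι V) (𝟙 _))
    obtain ⟨H, ⟨eH⟩⟩ := rep_of_isOpenImmersion (repWith_of_isPullback sqi.flip hιK) hU
    obtain ⟨W, w, hw, hzw⟩ := exists_nhd_of_nhd (kb := kb) XV hqcV hqsV xV (eH.hom ≫ pullback.snd i _)
      ((repWith_respectsIso_left eH.hom).2 (repWith_of_isPullback sqi hiopen)) (by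
        obtain ⟨q, hq⟩ := hix
        obtain ⟨q', -, hq'⟩ := exists_point_lift sqi q
          (Points.ofPt (prod.lift xV (𝟙 _)) (IsLocalRing.closedPoint K)) (by
            rw [hq, Points.map_ofPt]
            congr 1
            simp [hxV])
        rw [map_comp_eq, (bijective_map_iso eH.hom).2.range_comp]
        exact ⟨q', hq'⟩)
    have sqb := isPullback_prod_map_left (openSubι V) ((yon _).obj (spec k kb))
    refine ⟨W, w ≫ prod.map (openSubι V) (𝟙 _), repWith_comp hw (repWith_of_isPullback sqb hι), ?_⟩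
    obtain ⟨q, hq⟩ := hzw
    refine ⟨q, ?_⟩
    rw [Points.map_comp, hq, Points.map_ofPt, ← hzp]
    congr 1
    simp [hxV]
  choose H w hw hmem using cov
  obtain ⟨A, q, hqe, hqsurj⟩ := (isAlgSpace_prod hG (IsAlgSpace.yon_obj (spec k kb))).atlas
  obtain ⟨Gs, ⟨e⟩⟩ := exists_iso_yon_of_points_cover (κ := ↥A.left) (U := fun a => H (Points.ofPt q a))
    (w := fun a => w _) (fun a => hw _) fun x => by
      obtain ⟨a, rfl⟩ := surjective_ofPt hqsurj x
      exact ⟨a, hmem _⟩
  exact isRepresentable_of_iso_yon e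

end

end Groth.Agent.GrpScheme14
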