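import Groth.Agent.Lib.GrpScheme14.Basic
import Groth.Agent.Lib.GrpComp19.Basic
import Groth.Agent.Lib.QSect20.Orbit
import Groth.Agent.S10461

/-!
# The component of the unit of a group space over a field
-/

universe u

set_option backward.isDefEq.respectTransparency.types false
set_option backward.isDefEq.respectTransparency false
set_option linter.unusedVariables false

open CategoryTheory CategoryTheory.Limits AlgebraicGeometry Opposite
open MonoidalCategory MonObj
open scoped TensorProduct

namespace Groth.Agent.GrpScheme14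

open AlgSp Groth.Agent.AlgSpace Groth.Agent.AlgSpDecent Groth.Agent.FieldSpread14

noncomputable section

variable {k : Type u} [Field k]

/-- The unit section over a base. -/
def one (G : Over ((yon (Spec (CommRingCat.of k))).obj (Over.mk (𝟙 _)))) [GrpObj G]
    (T : Over (Spec (CommRingCat.of k))) : (yon _).obj T ⟶ G.left :=
  (1 : Over.mk ((isTerminalBase (S := Spec (CommRingCat.of k))).from ((yon _).obj T)) ⟶ G).left

variable (G : Over ((yon (Spec (CommRingCat.of k))).obj (Over.mk (𝟙 _)))) [GrpObj G]

theorem comp_one {T T' : Over (Spec (CommRingCat.of k))} (a : T ⟶ T') :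
    (yon _).map a ≫ one G T' = one G T := by
  let A : Over.mk ((isTerminalBase (S := Spec (CommRingCat.of k))).from ((yon _).obj T)) ⟶
      Over.mk ((isTerminalBase (S := Spec (CommRingCat.of k))).from ((yon _).obj T')) :=
    Over.homMk ((yon _).map a) ((isTerminalBase (S := Spec (CommRingCat.of k))).hom_ext _ _)
  exact congrArg Over.Hom.left (MonObj.comp_one (M := G) A)

variable (E : Type u) [Field E] [Algebra k E] {H : Over (Spec (CommRingCat.of k))}
  (e : (yon _).obj H ≅ G.left ⨯ (yon _).obj (spec k E))

/-- The unit point of the base change. -/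
def unitPt : Points (G.left ⨯ (yon _).obj (spec k E)) :=
  Points.ofPt (prod.lift (one G (spec k E)) (𝟙 _)) (IsLocalRing.closedPoint E)

/-- The group scheme over a field: the component of the unit has a unique maximal point. -/
theorem exists_unique_max :
    ∃ M eb : ↥H.left, QSect20.IsMaxPt M ∧ M ⤳ eb ∧ Points.ofPt e.hom eb = unitPt G E ∧
      ∀ M', QSect20.IsMaxPt M' → M' ⤳ eb → M' = M := by
  obtain ⟨q, hq⟩ := (yon _).map_surjective (e.hom ≫ Limits.prod.snd)
  let S' := Spec (CommRingCat.of E)
  let H' : Over S' := Over.mk q.left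
  let sE : S' ⟶ Spec (CommRingCat.of k) := (spec k E).hom
  let down : Over S' → Over (Spec (CommRingCat.of k)) := fun Z => Over.mk (Z.hom ≫ sE)
  let strOf : ∀ Z : Over S', down Z ⟶ spec k E := fun Z => Over.homMk Z.hom rfl
  let tp : Over S' → Over ((yon (Spec (CommRingCat.of k))).obj (Over.mk (𝟙 _))) := fun Z =>
    Over.mk ((isTerminalBase (S := Spec (CommRingCat.of k))).from ((yon _).obj (down Z)))
  let dmap : ∀ {Z Z' : Over S'}, (Z ⟶ Z') → (down Z ⟶ down Z') := fun {Z Z'} a =>
    Over.homMk a.left (by
      show a.left ≫ Z'.hom ≫ sE = Z.hom ≫ sE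
      rw [← Category.assoc, Over.w a])
  let tmap : ∀ {Z Z' : Over S'}, (Z ⟶ Z') → (tp Z ⟶ tp Z') := fun {Z Z'} a =>
    Over.homMk ((yon _).map (dmap a)) ((isTerminalBase (S := Spec (CommRingCat.of k))).hom_ext _ _)
  let F : (Over S')ᵒᵖ ⥤ GrpCat.{u + 1} :=
    { obj := fun Z => GrpCat.of (tp Z.unop ⟶ G)
      map := fun {Z Z'} a => GrpCat.ofHom
        { toFun := fun g => tmap a.unop ≫ g
          map_one' := MonObj.comp_one _
          map_mul' := fun g g' => MonObj.comp_mul _ _ _ }
      map_id := fun Z => by
        refine GrpCat.hom_ext (MonoidHom.ext fun g => ?_)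
        show tmap (𝟙 Z.unop) ≫ g = g
        rw [show tmap (𝟙 Z.unop) = 𝟙 _ from Over.OverMorphism.ext ((congrArg (yon _).map
          (show dmap (𝟙 Z.unop) = 𝟙 _ from Over.OverMorphism.ext rfl)).trans ((yon _).map_id _)), Category.id_comp]
      map_comp := fun {Z Z' Z''} a b => by
        refine GrpCat.hom_ext (MonoidHom.ext fun g => ?_)
        show tmap (b.unop ≫ a.unop) ≫ g = tmap b.unop ≫ tmap a.unop ≫ g
        rw [← Category.assoc]
        congr 1 }
  let toH : ∀ Z : Over S', (Z ⟶ H') → (down Z ⟶ H) := fun Z a => Over.homMk a.left (by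
    show a.left ≫ H.hom = Z.hom ≫ sE
    rw [← Over.w q, ← Category.assoc]
    exact congrArg (· ≫ sE) (Over.w a))
  have htoH : ∀ Z a, toH Z a ≫ q = strOf Z := fun Z a => Over.OverMorphism.ext (Over.w a)
  let fwd : ∀ Z : Over S', (Z ⟶ H') → (tp Z ⟶ G) := fun Z a =>
    Over.homMk ((yon _).map (toH Z a) ≫ e.hom ≫ Limits.prod.fst)
      ((isTerminalBase (S := Spec (CommRingCat.of k))).hom_ext _ _)
  let bwd : ∀ Z : Over S', (tp Z ⟶ G) → (Z ⟶ H') := fun Z g =>
    Over.homMk ((yon _).preimage (prod.lift g.left ((yon _).map (strOf Z)) ≫ e.inv)).left (by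
      have : (yon _).preimage (prod.lift g.left ((yon _).map (strOf Z)) ≫ e.inv) ≫ q = strOf Z := by
        apply (yon _).map_injective
        rw [Functor.map_comp, Functor.map_preimage, hq, Category.assoc, e.inv_hom_id_assoc, prod.lift_snd]
      exact congrArg Over.Hom.left this)
  have hb : ∀ Z g, (yon _).map (toH Z (bwd Z g)) = prod.lift g.left ((yon _).map (strOf Z)) ≫ e.inv :=
    fun Z g => by
      rw [show toH Z (bwd Z g) = (yon _).preimage _ from Over.OverMorphism.ext rfl]
      exact (yon _).map_preimage _
  let R : (F ⋙ forget GrpCat.{u + 1}).RepresentableBy H' :=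
    { homEquiv := fun {Z} =>
        { toFun := fwd Z
          invFun := bwd Z
          left_inv := fun a => by
            refine Over.OverMorphism.ext ?_
            show ((yon _).preimage _).left = (toH Z a).left
            congr 1
            apply (yon _).map_injective
            rw [Functor.map_preimage, ← cancel_mono e.hom, Category.assoc, e.inv_hom_id, Category.comp_id]
            apply Limits.prod.hom_ext
            · simp [fwd]
            · rw [prod.lift_snd, Category.assoc, ← hq, ← Functor.map_comp, htoH]
          right_inv := fun g => by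
            refine Over.OverMorphism.ext ?_
            show (yon _).map (toH Z (bwd Z g)) ≫ e.hom ≫ Limits.prod.fst = g.left
            rw [hb, Category.assoc, e.inv_hom_id_assoc, prod.lift_fst] }
      homEquiv_comp := fun {Z Z'} f a => by
        refine Over.OverMorphism.ext ?_
        show (yon _).map (toH Z (f ≫ a)) ≫ e.hom ≫ Limits.prod.fst =
          (yon _).map (dmap f) ≫ (yon _).map (toH Z' a) ≫ e.hom ≫ Limits.prod.fst
        rw [← Category.assoc ((yon _).map (dmap f)), ← Functor.map_comp]
        rfl }
  letI : GrpObj H' := GrpObj.ofRepresentableBy H' F R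
  obtain ⟨M, hM, hMe, hcomp⟩ := GrpComp19.unit_component H'
  refine ⟨M, GrpComp19.e₀ H', hM, hMe, ?_, fun M' hM' hM'e => ?_⟩
  · have hη : η[H'] = bwd (𝟙_ (Over S')) 1 := rfl
    have h1 : (yon _).map (toH (𝟙_ (Over S')) η[H']) ≫ e.hom =
        (yon _).map (strOf (𝟙_ (Over S'))) ≫ prod.lift (one G (spec k E)) (𝟙 _) := by
      rw [hη, hb, Category.assoc, e.inv_hom_id, Category.comp_id]
      apply Limits.prod.hom_ext
      · rw [prod.lift_fst, Category.assoc, prod.lift_fst, comp_one]
        rfl
      · simp
    have h2 := congrArg (fun f => Points.ofPt f (IsLocalRing.closedPoint E)) h1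
    simp only [ofPt_map_comp] at h2
    exact h2
  · have h1 : M' ∈ connectedComponent (GrpComp19.e₀ H') := by
      have hc : closure ({M'} : Set H'.left) ⊆ connectedComponent M' :=
        isPreconnected_singleton.closure.subset_connectedComponent (subset_closure rfl)
      have := hc (specializes_iff_mem_closure.1 hM'e)
      rw [← connectedComponent_eq this]
      exact mem_connectedComponent
    rw [hcomp] at h1
    exact (hM' M (specializes_iff_mem_closure.2 h1)).symm

end

end Groth.Agent.GrpScheme14
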