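import Groth.Agent.Lib.GrpScheme14.Basic
import Groth.Agent.Lib.AlgSpDecent.HasAtChart
import Groth.Agent.Lib.QSect20.Orbit
import Groth.Agent.Lib.RelCyc15.PerfectPull

/-!
# Maximal points of spaces and translations of group spaces
-/

universe u

set_option backward.isDefEq.respectTransparency.types false
set_option backward.isDefEq.respectTransparency false
set_option linter.unusedVariables false

open CategoryTheory CategoryTheory.Limits AlgebraicGeometry Opposite
open MonoidalCategory MonObj

namespace Groth.Agent.GrpScheme14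

open AlgSp Groth.Agent.AlgSpace Groth.Agent.AlgSpDecent Groth.Agent.FieldSpread14

noncomputable section

section General

variable {S : Scheme.{u}}

/-- A point of a space with a chart point without proper generization. -/
def ChartMax {F : Sp S} (x : Points F) : Prop := HasAt (fun _ v => QSect20.IsMaxPt v) F x

theorem isMaxPt_etale_iff {A B : Scheme.{u}} (f : A ⟶ B) (hf : Etale f) (a : A) :
    QSect20.IsMaxPt a ↔ QSect20.IsMaxPt (f a) := by
  have := locallyQuasiFinite_of_etale f
  exact ⟨QSect20.isMaxPt_of_flat f,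
    fun h y hy => eq_of_specializes_of_lqf f hy (h _ (hy.map f.continuous))⟩

theorem hasAt_dim_zero {F : Sp S} {x : Points F} (h : ChartMax x) :
    HasAt (fun U u => ringKrullDim ↥(U.presheaf.stalk u) = 0) F x := by
  obtain ⟨U, a, v, ha, hv, hmax⟩ := h
  refine ⟨U, a, v, ha, hv, ?_⟩
  letI := specializationPreorder U.left
  show ringKrullDim ↥(U.left.presheaf.stalk v) = 0
  rw [ringKrullDim_stalk_eq_coheight,
    Order.coheight_eq_zero.2 (show IsMax v from fun y hy => (hmax y hy ▸ le_rfl))]
  rfl

theorem chartMax_of_flat {F : Sp S} (hF : IsAlgSpace F) {H : Over S} {f : (yon S).obj H ⟶ F}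
    (hf : RepWith @Flat f) {h : ↥H.left} (hh : QSect20.IsMaxPt h) : ChartMax (Points.ofPt f h) := by
  obtain ⟨U, a, hae, has⟩ := hF.atlas
  obtain ⟨v, hv⟩ := surjective_ofPt has (Points.ofPt f h)
  obtain ⟨V, b, fst, sq⟩ := hae.1 f
  obtain ⟨c, rfl⟩ := (yon S).map_surjective fst
  have : Etale b.left := hae.2 f _ _ sq
  have : Flat c.left := hf.2 a _ _ sq.flip
  obtain ⟨w, hw, hw'⟩ := exists_pt_of_isPullback sq (x := Points.ofScheme U v) (t := h)
    (by rw [← Points.ofPt_eq_map_ofScheme]; exact hv)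
  rw [ofPt_map_eq] at hw
  refine ⟨U, a, v, hae, hv, ?_⟩
  rw [← (Points.schemeEquiv U).injective hw]
  refine QSect20.isMaxPt_of_flat c.left ?_
  rw [isMaxPt_etale_iff b.left ‹_›, hw']
  exact hh

theorem isMaxPt_of_chartMax {F : Sp S} {H : Over S} {f : (yon S).obj H ⟶ F}
    (hf : RepWith @IsIntegralHom f) {h : ↥H.left} (hx : ChartMax (Points.ofPt f h)) :
    QSect20.IsMaxPt h := by
  obtain ⟨U, a, v, hae, hv, hmax⟩ := hx
  obtain ⟨V, b, fst, sq⟩ := hae.1 f
  obtain ⟨c, rfl⟩ := (yon S).map_surjective fst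
  have : Etale b.left := hae.2 f _ _ sq
  have : IsIntegralHom c.left := hf.2 a _ _ sq.flip
  obtain ⟨w, hw, hw'⟩ := exists_pt_of_isPullback sq (x := Points.ofScheme U v) (t := h)
    (by rw [← Points.ofPt_eq_map_ofScheme]; exact hv)
  rw [ofPt_map_eq] at hw
  rw [← hw']
  refine (isMaxPt_etale_iff b.left ‹_› w).1 (QSect20.isMaxPt_of_integral c.left ?_)
  rw [(Points.schemeEquiv U).injective hw]
  exact hmax

variable (G : Over ((yon S).obj (Over.mk (𝟙 S)))) [GrpObj G]

/-- Pointwise product of two maps into a group space. -/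
def mul {Z : Sp S} (a b : Z ⟶ G.left) : Z ⟶ G.left :=
  ((Over.homMk a ((isTerminalBase (S := S)).hom_ext _ _) :
      Over.mk ((isTerminalBase (S := S)).from Z) ⟶ G) *
    Over.homMk b ((isTerminalBase (S := S)).hom_ext _ _)).left

theorem comp_mul' {Z Z' : Sp S} (c : Z' ⟶ Z) (a b : Z ⟶ G.left) :
    c ≫ mul G a b = mul G (c ≫ a) (c ≫ b) := by
  let C : Over.mk ((isTerminalBase (S := S)).from Z') ⟶ Over.mk ((isTerminalBase (S := S)).from Z) :=
    Over.homMk c ((isTerminalBase (S := S)).hom_ext _ _)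
  exact congrArg Over.Hom.left (MonObj.comp_mul (M := G) C (Over.homMk a ((isTerminalBase (S := S)).hom_ext _ _))
    (Over.homMk b ((isTerminalBase (S := S)).hom_ext _ _)))

/-- Left and right translations. -/
theorem exists_translations {T : Sp S} (c : T ⟶ G.left) :
    ∃ τl τr : G.left ⨯ T ≅ G.left ⨯ T, τl.hom = prod.lift (mul G (Limits.prod.snd ≫ c) Limits.prod.fst) Limits.prod.snd ∧
      τr.hom = prod.lift (mul G Limits.prod.fst (Limits.prod.snd ≫ c)) Limits.prod.snd := by
  have hterm := isTerminalBase (S := S)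
  let toG : ∀ {Z : Sp S} (a : Z ⟶ G.left), Over.mk (hterm.from Z) ⟶ G :=
    fun a => Over.homMk a (hterm.hom_ext _ _)
  have hmul : ∀ {Z : Sp S} (a b : Z ⟶ G.left), toG (mul G a b) = toG a * toG b := fun a b =>
    Over.OverMorphism.ext rfl
  have inj : ∀ {Z : Sp S} (a b : Z ⟶ G.left), toG a = toG b → a = b := fun a b h =>
    congrArg Over.Hom.left h
  let c' : T ⟶ G.left := (toG c)⁻¹.left
  have hc' : toG c' = (toG c)⁻¹ := Over.OverMorphism.ext rfl
  have pre : ∀ (a : T ⟶ G.left), toG ((Limits.prod.snd : G.left ⨯ T ⟶ T) ≫ a) =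
      (Over.homMk (Limits.prod.snd : G.left ⨯ T ⟶ T) (hterm.hom_ext _ _) :
        Over.mk (hterm.from (G.left ⨯ T)) ⟶ Over.mk (hterm.from T)) ≫ toG a :=
    fun a => Over.OverMorphism.ext rfl
  have inv₁ : toG ((Limits.prod.snd : G.left ⨯ T ⟶ T) ≫ c) * toG (Limits.prod.snd ≫ c') = 1 := by
    rw [pre, pre, ← MonObj.comp_mul, hc', mul_inv_cancel, MonObj.comp_one]
  have inv₂ : toG ((Limits.prod.snd : G.left ⨯ T ⟶ T) ≫ c') * toG (Limits.prod.snd ≫ c) = 1 := by
    rw [pre, pre, ← MonObj.comp_mul, hc', inv_mul_cancel, MonObj.comp_one]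
  refine ⟨{ hom := prod.lift (mul G (Limits.prod.snd ≫ c) Limits.prod.fst) Limits.prod.snd
            inv := prod.lift (mul G (Limits.prod.snd ≫ c') Limits.prod.fst) Limits.prod.snd
            hom_inv_id := ?_, inv_hom_id := ?_ },
    { hom := prod.lift (mul G Limits.prod.fst (Limits.prod.snd ≫ c)) Limits.prod.snd
      inv := prod.lift (mul G Limits.prod.fst (Limits.prod.snd ≫ c')) Limits.prod.snd
      hom_inv_id := ?_, inv_hom_id := ?_ }, rfl, rfl⟩
  all_goals
    apply Limits.prod.hom_ext
    · rw [Category.assoc, prod.lift_fst, comp_mul', prod.lift_fst, prod.lift_snd_assoc, Category.id_comp]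
      apply inj
      rw [hmul, hmul]
      first
        | (rw [← _root_.mul_assoc, inv₁, _root_.one_mul])
        | (rw [← _root_.mul_assoc, inv₂, _root_.one_mul])
        | (rw [_root_.mul_assoc, inv₁, _root_.mul_one])
        | (rw [_root_.mul_assoc, inv₂, _root_.mul_one])
    · simp

end General

variable {k : Type u} [Field k]

/-- The projection from a base change to an extension field. -/
theorem bc_facts (X : Sp (Spec (CommRingCat.of k))) (E : Type u) [Field E] [Algebra k E]
    {H : Over (Spec (CommRingCat.of k))} (e : (yon _).obj H ≅ X ⨯ (yon _).obj (spec k E)) :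
    RepWith @Flat (e.hom ≫ Limits.prod.fst) ∧
      (Algebra.IsIntegral k E → RepWith @IsIntegralHom (e.hom ≫ Limits.prod.fst) ∧
        RepWith @UniversallyClosed (e.hom ≫ Limits.prod.fst)) := by
  have hterm := isTerminalBase (S := Spec (CommRingCat.of k))
  have sqπ : IsPullback (Limits.prod.fst : X ⨯ (yon _).obj (spec k E) ⟶ X) Limits.prod.snd
      (hterm.from X) (hterm.from ((yon _).obj (spec k E))) :=
    IsPullback.of_is_product' (Limits.prodIsProd _ _) hterm
  obtain ⟨m, hm⟩ := (yon _).map_surjective (hterm.from ((yon _).obj (spec k E)))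
  have hm' : m.left = Spec.map (CommRingCat.ofHom (algebraMap k E)) := by
    have := Over.w m
    simpa [spec] using this
  have hflat : Flat m.left := by
    rw [hm', HasRingHomProperty.Spec_iff (P := @Flat)]
    exact RingHom.flat_algebraMap_iff.2 inferInstance
  refine ⟨(repWith_respectsIso_left e.hom).2 (repWith_of_isPullback sqπ.flip ?_), fun hint => ?_⟩
  · rw [← hm]
    exact (repWith_yon_map_iff _ _).2 hflat
  have hi : IsIntegralHom m.left := by
    rw [hm', IsIntegralHom.SpecMap_iff]
    exact algebraMap_isIntegral_iff.2 hint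
  refine ⟨(repWith_respectsIso_left e.hom).2 (repWith_of_isPullback sqπ.flip ?_),
    (repWith_respectsIso_left e.hom).2 (repWith_of_isPullback sqπ.flip ?_)⟩
  · rw [← hm]
    exact (repWith_yon_map_iff _ _).2 hi
  · rw [← hm]
    exact (repWith_yon_map_iff _ _).2 (inferInstance : UniversallyClosed m.left)

end

end Groth.Agent.GrpScheme14
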