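import Groth.Agent.Lib.GrpScheme14.Alg
import Groth.Agent.Lib.GrpScheme14.Component
import Groth.Agent.Lib.GrpScheme14.Fields
import Groth.Agent.Lib.GrpScheme14.MaxPt
import Groth.Agent.Lib.AlgSpDecent.FiniteMin
import Groth.Agent.S10411

/-!
# Separated group spaces over a field are schemes
-/

universe u

set_option backward.isDefEq.respectTransparency.types false
set_option backward.isDefEq.respectTransparency false
set_option linter.unusedVariables false

open CategoryTheory CategoryTheory.Limits AlgebraicGeometry Opposite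
open MonoidalCategory MonObj
open scoped TensorProduct

namespace Groth.Agent.GrpScheme14

open AlgSp Groth.Agent.AlgSpace Groth.Agent.AlgSpDecent Groth.Agent.FieldSpread14

noncomputable section

set_option maxHeartbeats 1000000

variable {k : Type u} [Field k]

/-- From an affine open at a finite stage to a scheme neighbourhood of a point. -/
theorem exists_nhd_of_stage (X : AlgSp.Space (Spec (CommRingCat.of k))) {Ω : Type u} [Field Ω] [Algebra k Ω]
    (g : (yon _).obj (spec k Ω) ⟶ X.obj) {A : Type u} [CommRing A] [Algebra k A]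
    {HA : Over (Spec (CommRingCat.of k))} (hHA : IsAffine HA.left)
    (w : (yon _).obj HA ⟶ X.obj ⨯ (yon _).obj (spec k A)) (hw : RepWith @IsOpenImmersion w)
    (f : Ω ⊗[k] A)
    (hfU : ∀ t : PrimeSpectrum (Ω ⊗[k] A), f ∉ t.asIdeal →
      Points.ofPt (prod.lift ((yon _).map (specHom (Algebra.TensorProduct.includeLeft : Ω →ₐ[k] Ω ⊗[k] A)) ≫ g)
        ((yon _).map (specHom (Algebra.TensorProduct.includeRight : A →ₐ[k] Ω ⊗[k] A)))) t ∈
          Set.range (Points.map w))
    (k' : Type u) [Field k'] [Algebra k k'] [Module.Finite k k'] (a : A →ₐ[k] k')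
    (hunit : IsUnit (Algebra.TensorProduct.map (AlgHom.id k Ω) a f)) :
    ∃ (H : Over (Spec (CommRingCat.of k))) (j : (yon _).obj H ⟶ X.obj), RepWith @IsOpenImmersion j ∧
      Points.ofPt g (IsLocalRing.closedPoint Ω) ∈ Set.range (Points.map j) := by
  let T : Type u := Ω ⊗[k] A
  let σ : (yon _).obj (spec k T) ⟶ X.obj ⨯ (yon _).obj (spec k A) :=
    prod.lift ((yon _).map (specHom (Algebra.TensorProduct.includeLeft : Ω →ₐ[k] T)) ≫ g)
      ((yon _).map (specHom (Algebra.TensorProduct.includeRight : A →ₐ[k] T)))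
  let v : spec k k' ⟶ spec k A := specHom a
  let P := X.obj ⨯ (yon _).obj (spec k k')
  let π : P ⟶ X.obj := Limits.prod.fst
  have sqW := IsPullback.of_hasPullback w (prod.map (𝟙 X.obj) ((yon _).map v))
  obtain ⟨gw, hgw⟩ := (yon _).map_surjective (w ≫ Limits.prod.snd)
  obtain ⟨eW⟩ : Nonempty ((yon _).obj (pullback gw v) ≅ pullback w (prod.map (𝟙 X.obj) ((yon _).map v))) := by
    have sq₃ := (IsPullback.of_hasPullback gw v).map (yon _)
    rw [hgw] at sq₃
    exact ⟨sq₃.isoIsPullback _ _ (sqW.paste_vert (isPullback_prod_map_right ((yon _).map v) X.obj).flip)⟩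
  have haffW : IsAffine (pullback gw v).left := by
    have := hHA
    have : IsAffine (spec k k').left := inferInstance
    have : IsAffineHom v.left := isAffineHom_of_isAffine _
    have sq := ((IsPullback.of_hasPullback gw v).map (Over.forget _))
    have : IsAffineHom (pullback.fst gw v).left := MorphismProperty.of_isPullback sq.flip ‹_›
    exact isAffine_of_isAffineHom (pullback.fst gw v).left
  have hterm := isTerminalBase (S := Spec (CommRingCat.of k))
  have sqπ : IsPullback π Limits.prod.snd (hterm.from X.obj) (hterm.from ((yon _).obj (spec k k'))) :=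
    IsPullback.of_is_product' (Limits.prodIsProd _ _) hterm
  obtain ⟨m, hm⟩ := (yon _).map_surjective (hterm.from ((yon _).obj (spec k k')))
  have hm' : m.left = Spec.map (CommRingCat.ofHom (algebraMap k k')) := by
    have := Over.w m
    simpa [spec] using this
  have hlfp : LocallyOfFinitePresentation m.left := by
    rw [hm', HasRingHomProperty.Spec_iff (P := @LocallyOfFinitePresentation)]
    exact RingHom.finitePresentation_algebraMap.2 (Algebra.FinitePresentation.of_finiteType.1 inferInstance)
  have hflat : Flat m.left := by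
    rw [hm', HasRingHomProperty.Spec_iff (P := @Flat)]
    exact RingHom.flat_algebraMap_iff.2 inferInstance
  have hfinm : IsFinite m.left := by
    rw [hm', IsFinite.SpecMap_iff]
    exact RingHom.finite_algebraMap.2 inferInstance
  have hsurj : Surjective m.left := by
    rw [hm']
    exact Groth.Agent.RelCyc15.surjective_spec k k'
  have hflf : IsFinLocFreeMor π := by
    refine repWith_of_isPullback sqπ.flip ?_
    rw [← hm]
    exact (repWith_yon_map_iff _ _).2 ⟨hfinm, hflat, hlfp⟩
  have hπs : RepWith @Surjective π := by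
    refine repWith_of_isPullback sqπ.flip ?_
    rw [← hm]
    exact (repWith_yon_map_iff _ _).2 hsurj
  obtain ⟨Y', j, hj, hrep, hxj⟩ : ∃ (Y' : AlgSp.Space (Spec (CommRingCat.of k))) (j : Y' ⟶ X),
      RepWith @IsOpenImmersion j.hom ∧ Y'.obj.obj.IsRepresentable ∧
        Points.ofPt g (IsLocalRing.closedPoint Ω) ∈ Set.range (Points.map j.hom) := by
    refine (Groth.Agent.S10411.result (X := ⟨P, isAlgSpace_prod X.property (IsAlgSpace.yon_obj _)⟩) (Y := X)
      (ObjectProperty.homMk π) hflf hπs (Points.ofPt g (IsLocalRing.closedPoint Ω))).2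
      ⟨pullback gw v, eW.hom ≫ pullback.snd w _, haffW,
        (repWith_respectsIso_left eW.hom).2 (repWith_of_isPullback sqW hw), ?_⟩
    intro z hz
    change Points.map π z = _ at hz
    induction z using Points.ind with | h q =>
    obtain ⟨_, gq, hgq, -⟩ := exists_field_hom q
    rw [← hgq, Points.map_ofPt] at hz
    obtain ⟨M, _, _, α, α₂, hc⟩ := exists_common_field (gq ≫ π) g hz
    obtain ⟨b₁, hb₁⟩ := (yon _).map_surjective ((yon _).map (specHom α) ≫ gq ≫ Limits.prod.snd)
    obtain ⟨β, rfl⟩ := exists_specHom b₁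
    let r : Ω ⊗[k] k' →ₐ[k] M := Algebra.TensorProduct.lift α₂ β (fun _ _ => Commute.all _ _)
    let tot := (yon _).map (specHom α) ≫ gq
    let a' : T →ₐ[k] Ω ⊗[k] k' := Algebra.TensorProduct.map (AlgHom.id k Ω) a
    have el : (r.comp a').comp Algebra.TensorProduct.includeLeft = α₂ := by
      ext ω
      show (Algebra.TensorProduct.lift α₂ β fun _ _ => Commute.all _ _) ((AlgHom.id k Ω) ω ⊗ₜ[k] a 1) = α₂ ω
      rw [Algebra.TensorProduct.lift_tmul, map_one, map_one, _root_.mul_one]; rfl
    have er : (r.comp a').comp Algebra.TensorProduct.includeRight = β.comp a := by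
      ext y
      show (Algebra.TensorProduct.lift α₂ β fun _ _ => Commute.all _ _) ((AlgHom.id k Ω) 1 ⊗ₜ[k] a y) = β (a y)
      rw [Algebra.TensorProduct.lift_tmul, map_one, map_one, _root_.one_mul]
    have htot : tot ≫ prod.map (𝟙 X.obj) ((yon _).map v) = (yon _).map (specHom (r.comp a')) ≫ σ := by
      apply Limits.prod.hom_ext
      · simp only [σ, Category.assoc, prod.lift_fst, prod.map_fst, Category.comp_id]
        rw [← Category.assoc ((yon _).map (specHom (r.comp a'))), ← Functor.map_comp, ← PurTrans14.specHom_comp, el]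
        exact (Category.assoc _ _ _).trans hc
      · simp only [σ, Category.assoc, prod.lift_snd, prod.map_snd]
        rw [← Category.assoc, show tot ≫ Limits.prod.snd = (yon _).map (specHom β) from by
            simp only [tot, Category.assoc]; exact hb₁.symm,
          ← Functor.map_comp, ← Functor.map_comp, ← PurTrans14.specHom_comp, ← PurTrans14.specHom_comp, er]
    have hmem : Points.ofPt σ ((specHom (r.comp a')).left (IsLocalRing.closedPoint M)) ∈
        Set.range (Points.map w) := by
      refine hfU _ ?_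
      show r (a' f) ∉ IsLocalRing.maximalIdeal M
      rw [IsLocalRing.maximalIdeal_eq_bot, Ideal.mem_bot]
      exact (hunit.map r).ne_zero
    obtain ⟨y', hy'⟩ := hmem
    have hqtot : Points.ofPt tot (IsLocalRing.closedPoint M) = Points.mk q :=
      (ofPt_specHom α gq).trans hgq
    obtain ⟨z', -, hz'⟩ := exists_point_lift sqW y' (Points.ofPt tot (IsLocalRing.closedPoint M)) (by
      rw [hy', Points.map_ofPt, htot, ofPt_map_comp])
    obtain ⟨z'', rfl⟩ := (bijective_map_iso eW.hom).2 z'
    obtain ⟨t, rfl⟩ := (Points.schemeEquiv _).surjective z''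
    refine ⟨t, ?_⟩
    rw [Points.ofPt_eq_map_ofScheme, Points.map_comp]
    exact hz'.trans hqtot
  obtain ⟨H, ⟨e⟩⟩ := AlgSpDecent.exists_yon_iso_of_isRepresentable hrep
  refine ⟨H, e.hom ≫ j.hom, (repWith_respectsIso_left e.hom).2 hj, ?_⟩
  obtain ⟨y, hy⟩ := hxj
  obtain ⟨y', rfl⟩ := (bijective_map_iso e.hom).2 y
  exact ⟨y', by rw [Points.map_comp]; exact hy⟩

variable (G : Over ((yon (Spec (CommRingCat.of k))).obj (Over.mk (𝟙 _)))) [GrpObj G]

/-- A separated group space over a field is a scheme. -/
theorem rep_of_group (hG : IsAlgSpace G.left) (hqs : IsQuasiSeparatedSp G.left) :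
    G.left.obj.IsRepresentable := by
  let kb := AlgebraicClosure k
  let X : AlgSp.Space (Spec (CommRingCat.of k)) := ⟨G.left, hG⟩
  have hdec := isDecent_of_isQuasiSeparatedSp hG hqs
  -- the scheme over the algebraic closure
  obtain ⟨H, ⟨e⟩⟩ := AlgSpDecent.exists_yon_iso_of_isRepresentable (rep_bc_of_group (kb := kb) G hG hqs)
  obtain ⟨M₀, eb, hM₀, hM₀e, heb, huniq⟩ := exists_unique_max G kb e
  obtain ⟨hflat, hint⟩ := bc_facts G.left kb e
  obtain ⟨hint, huc⟩ := hint inferInstance
  let f := e.hom ≫ (Limits.prod.fst : G.left ⨯ (yon _).obj (spec k kb) ⟶ G.left)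
  have hη : ChartMax (Points.ofPt f M₀) := chartMax_of_flat hG hflat hM₀
  have hfib : ∀ z, Points.ofPt f z = Points.ofPt f M₀ → z = M₀ := by
    intro z hz
    have hzmax : QSect20.IsMaxPt z := isMaxPt_of_chartMax hint (hz ▸ hη)
    have hcl := S10461.isClosed_image huc (isClosed_closure (s := ({z} : Set ↥H.left)))
    have hmem : Points.ofPt f eb ∈ Points.ofPt f '' closure {z} :=
      (hM₀e.map (Points.continuous_ofPt f)).mem_closed hcl ⟨z, subset_closure rfl, hz⟩
    obtain ⟨w, hw, hwe⟩ := hmem
    have hweb : w = eb := by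
      apply (bijective_ofPt_iso e).1
      rw [heb]
      have h0 : Points.map Limits.prod.fst (Points.ofPt e.hom w) =
          Points.map Limits.prod.fst (Points.ofPt e.hom eb) := by
        rw [Points.map_ofPt, Points.map_ofPt]; exact hwe
      rw [heb] at h0
      generalize Points.ofPt e.hom w = q at h0
      induction q using Points.ind with | h q =>
      obtain ⟨_, gq, hgq, -⟩ := exists_field_hom q
      rw [← hgq, Points.map_ofPt, unitPt, Points.map_ofPt, prod.lift_fst] at h0
      obtain ⟨M, _, _, α, β, hc⟩ := exists_common_field (gq ≫ Limits.prod.fst) (one G (spec k kb)) h0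
      obtain ⟨b₁, hb₁⟩ := (yon _).map_surjective ((yon _).map (specHom α) ≫ gq ≫ Limits.prod.snd)
      obtain ⟨δ, rfl⟩ := exists_specHom b₁
      have e' : (yon _).map (specHom α) ≫ gq = (yon _).map (specHom δ) ≫ prod.lift (one G (spec k kb)) (𝟙 _) := by
        apply Limits.prod.hom_ext
        · rw [Category.assoc, Category.assoc, prod.lift_fst, comp_one, hc, comp_one]
        · rw [Category.assoc, Category.assoc, prod.lift_snd, Category.comp_id, ← hb₁]
      rw [← hgq, ← ofPt_specHom α gq, e', ofPt_specHom]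
      rfl
    exact huniq z hzmax (hweb ▸ specializes_iff_mem_closure.2 hw)
  obtain ⟨pη, hpη, hpmono, -⟩ := hdec (Points.ofPt f M₀)
  obtain ⟨_, gη, hgη, hgmono⟩ := exists_field_hom pη
  have := hgmono hpmono
  let L := pη.K
  have hgη' : Points.ofPt gη (IsLocalRing.closedPoint L) = Points.ofPt f M₀ := hgη.trans hpη
  have hgraph : ∀ (E : Type u) [Field E] [Algebra k E] (Q : PrimeSpectrum (E ⊗[k] L)),
      Points.map Limits.prod.fst (Points.ofPt (graph gη E) Q) = Points.ofPt f M₀ := by
    intro E _ _ Q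
    rw [Points.map_ofPt, graph, prod.lift_fst, ofPt_map_comp, ← hgη']
    congr 1
    exact Subsingleton.elim (α := PrimeSpectrum L) _ _
  have hsub : Subsingleton (PrimeSpectrum (kb ⊗[k] L)) := by
    refine ⟨fun P Q => injective_graph gη kb ?_⟩
    have h1 : ∀ R : PrimeSpectrum (kb ⊗[k] L), Points.ofPt (graph gη kb) R = Points.ofPt e.hom M₀ := fun R => by
      obtain ⟨z, hz⟩ := (bijective_ofPt_iso e).2 (Points.ofPt (graph gη kb) R)
      rw [← hz, hfib z]
      have := hgraph kb R
      rwa [← hz, Points.map_ofPt] at this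
    exact (h1 P).trans (h1 Q).symm
  -- a neighbourhood of every point
  have cov : ∀ x : Points G.left, ∃ (W : Over (Spec (CommRingCat.of k))) (w : (yon _).obj W ⟶ G.left),
      RepWith @IsOpenImmersion w ∧ x ∈ Set.range (Points.map w) := by
    intro x
    induction x using Points.ind with | h p =>
    obtain ⟨_, g₀, hg₀, -⟩ := exists_field_hom p
    let Ω := AlgebraicClosure p.K
    let g : (yon _).obj (spec k Ω) ⟶ G.left :=
      (yon _).map (specHom (IsScalarTower.toAlgHom k p.K Ω)) ≫ g₀
    have hg : Points.ofPt g (IsLocalRing.closedPoint Ω) = Points.mk p := (ofPt_specHom _ g₀).trans hg₀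
    let il : kb →ₐ[k] Ω := IsAlgClosed.lift
    let : Algebra kb Ω := il.toRingHom.toAlgebra
    have : IsScalarTower k kb Ω := IsScalarTower.of_algebraMap_eq fun c => (il.commutes c).symm
    obtain ⟨H', ⟨e'⟩⟩ := AlgSpDecent.exists_yon_iso_of_isRepresentable (rep_bc_of_group (kb := Ω) G hG hqs)
    obtain ⟨M₁, eb', hM₁, hM₁e, heb', -⟩ := exists_unique_max G Ω e'
    obtain ⟨h, hh⟩ := (yon _).map_surjective
      (e'.hom ≫ prod.map (𝟙 G.left) ((yon _).map (specHom il)) ≫ e.inv)
    have hhe : (yon _).map h ≫ e.hom = e'.hom ≫ prod.map (𝟙 G.left) ((yon _).map (specHom il)) := by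
      rw [hh]; simp
    have hhflat : Flat h.left := by
      refine (repWith_yon_map_iff (P := @Flat) h).1 ?_
      rw [hh]
      refine (repWith_respectsIso_left e'.hom).2 ((repWith_respectsIso_right e.inv).2 ?_)
      refine repWith_of_isPullback (isPullback_prod_map_right ((yon _).map (specHom il)) G.left) ?_
      refine (repWith_yon_map_iff _ _).2 ?_
      show Flat (Spec.map (CommRingCat.ofHom il.toRingHom))
      rw [HasRingHomProperty.Spec_iff (P := @Flat)]
      exact RingHom.flat_algebraMap_iff.2 (inferInstance : Module.Flat kb Ω)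
    have hM₁₀ : h.left M₁ = M₀ := by
      refine huniq _ (QSect20.isMaxPt_of_flat h.left hM₁) ?_
      rw [show eb = h.left eb' from ?_]
      · exact hM₁e.map h.left.continuous
      apply (bijective_ofPt_iso e).1
      rw [heb, ← ofPt_map_comp, hhe, ← Points.map_ofPt, heb', unitPt, unitPt, Points.map_ofPt, prod.lift_map,
        Category.comp_id, Category.id_comp,
        show prod.lift (one G (spec k Ω)) ((yon _).map (specHom il)) =
          (yon _).map (specHom il) ≫ prod.lift (one G (spec k kb)) (𝟙 _) by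
          rw [prod.comp_lift, comp_one, Category.comp_id],
        ofPt_specHom]
    have hM₁f : Points.ofPt (e'.hom ≫ Limits.prod.fst) M₁ = Points.ofPt f M₀ := by
      rw [← hM₁₀, ← ofPt_map_comp]
      congr 1
      simp only [f, ← Category.assoc, hhe]
      simp
    -- the point over the generic point
    obtain ⟨q₁, hq₁⟩ := Points.mk_surjective (Points.ofPt e'.hom M₁)
    obtain ⟨_, g₁, hg₁, -⟩ := exists_field_hom q₁
    have h1 : Points.ofPt (g₁ ≫ Limits.prod.fst) (IsLocalRing.closedPoint q₁.K) =
        Points.ofPt gη (IsLocalRing.closedPoint L) := by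
      rw [← Points.map_ofPt, hg₁, hq₁, Points.map_ofPt, hM₁f, hgη']
    obtain ⟨N, _, _, c, β, hcβ⟩ := exists_common_field (g₁ ≫ Limits.prod.fst) gη h1
    obtain ⟨b₁, hb₁⟩ := (yon _).map_surjective ((yon _).map (specHom c) ≫ g₁ ≫ Limits.prod.snd)
    obtain ⟨α, rfl⟩ := exists_specHom b₁
    let ν : Ω ⊗[k] L →ₐ[k] N := Algebra.TensorProduct.lift α β (fun _ _ => Commute.all _ _)
    let et := prod.lift ((yon _).map (specHom β) ≫ gη) ((yon _).map (specHom α))
    have hνl : ν.comp Algebra.TensorProduct.includeLeft = α := Algebra.TensorProduct.lift_comp_includeLeft _ _ (fun _ _ => Commute.all _ _)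
    have hνr : ν.comp Algebra.TensorProduct.includeRight = β :=
      Algebra.TensorProduct.lift_comp_includeRight _ _ (fun _ _ => Commute.all _ _)
    have hνgraph : (yon _).map (specHom ν) ≫ graph gη Ω = et := by
      rw [comp_graph, hνl, hνr]
    have hηc : et = (yon _).map (specHom c) ≫ g₁ := by
      apply Limits.prod.hom_ext
      · simp only [et, prod.lift_fst, Category.assoc]; exact hcβ.symm
      · simp only [et, prod.lift_snd, Category.assoc]; exact hb₁
    have hηM : Points.ofPt et (IsLocalRing.closedPoint N) = Points.ofPt e'.hom M₁ := by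
      rw [hηc, ofPt_specHom, hg₁, hq₁]
    obtain ⟨P₀, hP₀⟩ := exists_least_prime (k := k) (kb := kb) (Ω := Ω) (L := L)
    let P₁ : PrimeSpectrum (Ω ⊗[k] L) := ⟨RingHom.ker ν.toRingHom, RingHom.ker_isPrime _⟩
    have hP₁ : Points.ofPt (graph gη Ω) P₁ = Points.ofPt e'.hom M₁ := by
      rw [← hηM, ← hνgraph, ofPt_map_comp]
      congr 1
      exact PrimeSpectrum.ext (specHom_closedPoint ν).symm
    have hker : ∀ P : PrimeSpectrum (Ω ⊗[k] L), RingHom.ker ν.toRingHom ≤ P.asIdeal := by
      have hle : P₀ ⤳ P₁ := (PrimeSpectrum.le_iff_specializes P₀ P₁).1 (hP₀ P₁)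
      have hhomeo : IsHomeomorph (Points.map e'.hom) :=
        ⟨Points.continuous_map _, (IsOpenMap.of_inverse (f' := Points.map e'.inv)
          (Points.continuous_map _) (fun y => by rw [← Points.map_comp, e'.inv_hom_id, Points.map_id])
          (fun y => by rw [← Points.map_comp, e'.hom_inv_id, Points.map_id])), bijective_map_iso e'.hom⟩
      obtain ⟨y₀, hy₀⟩ := (bijective_ofPt_iso e').2 (Points.ofPt (graph gη Ω) P₀)
      have hy : y₀ ⤳ M₁ := by
        have hs : Points.ofPt e'.hom y₀ ⤳ Points.ofPt e'.hom M₁ := by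
          rw [hy₀, ← hP₁]
          exact hle.map (Points.continuous_ofPt _)
        rw [Points.ofPt_eq_map_ofScheme, Points.ofPt_eq_map_ofScheme] at hs
        exact (Points.schemeHomeo H').isInducing.specializes_iff.1
          (hhomeo.isEmbedding.isInducing.specializes_iff.1 hs)
      have : P₀ = P₁ := injective_graph gη Ω (hy₀.symm.trans ((congrArg _ (hM₁ y₀ hy)).trans hP₁.symm))
      subst this
      exact hP₀
    -- translate the maximal point
    obtain ⟨τl, -, hτl, -⟩ := exists_translations G g
    let vv : (yon _).obj (spec k N) ⟶ G.left :=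
      mul G ((yon _).map (specHom α) ≫ g) ((yon _).map (specHom β) ≫ gη)
    have hvv : ChartMax (Points.ofPt vv (IsLocalRing.closedPoint N)) := by
      have := chartMax_of_flat hG (bc_facts G.left Ω (e' ≪≫ τl)).1 hM₁
      convert this using 1
      show _ = Points.ofPt ((e'.hom ≫ τl.hom) ≫ Limits.prod.fst) M₁
      rw [Category.assoc, ← Points.map_ofPt, ← hηM, Points.map_ofPt, hτl, prod.lift_fst, comp_mul']
      congr 1
      simp [vv, et]
    -- an affine open around it
    obtain ⟨X', j, hj, hX', -, hmax⟩ := exists_dense_of_zarLocQS X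
      ⟨PUnit, fun _ => X, fun _ => 𝟙 X, ⟨fun _ => repWith_mono
        (fun _ _ v (_ : IsIso v) => (inferInstance : IsOpenImmersion v)) (AlgSpDescent.repWith_isomorphisms_of_isIso (𝟙 X.obj)),
        fun y => ⟨PUnit.unit, y, Points.map_id y⟩⟩, fun _ => hqs⟩
    obtain ⟨T₀, ⟨eT⟩⟩ := AlgSpDecent.exists_yon_iso_of_isRepresentable hX'
    obtain ⟨y₁, hy₁⟩ := hmax _ (hasAt_dim_zero hvv)
    obtain ⟨t₁, rfl⟩ := (bijective_ofPt_iso eT).2 y₁
    obtain ⟨O, hO, htO, -⟩ := exists_isAffineOpen_mem_and_subset (X := T₀.left) (x := t₁) (U := ⊤) trivial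
    let o : Over.mk (O.ι ≫ T₀.hom) ⟶ T₀ := Over.homMk O.ι rfl
    have : IsAffine (Over.mk (O.ι ≫ T₀.hom)).left := hO
    let w₀ := (yon _).map o ≫ eT.hom ≫ j.hom
    have hw₀ : RepWith @IsOpenImmersion w₀ :=
      repWith_comp ((repWith_yon_map_iff _ _).2 (show IsOpenImmersion O.ι from inferInstance))
        ((repWith_respectsIso_left eT.hom).2 hj)
    have hvw : Points.ofPt vv (IsLocalRing.closedPoint N) ∈ Set.range (Points.map w₀) := by
      refine ⟨Points.ofScheme _ (⟨t₁, htO⟩ : ↥O.toScheme), ?_⟩
      rw [← Points.ofPt_eq_map_ofScheme, ofPt_map_comp, ← hy₁, Points.map_ofPt]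
      rfl
    -- move it to the point
    obtain ⟨-, τr, -, hτr⟩ := exists_translations G gη
    let z := prod.lift ((yon _).map (specHom α) ≫ g) ((yon _).map (specHom β))
    have hzτ : z ≫ τr.hom = prod.lift vv ((yon _).map (specHom β)) := by
      rw [hτr, prod.comp_lift, comp_mul']
      simp [z, vv]
    have sqT := isPullback_prod_map_left w₀ ((yon _).obj (spec k L))
    have hzr : Points.ofPt z (IsLocalRing.closedPoint N) ∈
        Set.range (Points.map (prod.map w₀ (𝟙 _) ≫ τr.inv)) := by
      obtain ⟨y, hy⟩ := hvw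
      obtain ⟨y', hy'₁, hy'⟩ := exists_point_lift sqT y
        (Points.ofPt (prod.lift vv ((yon _).map (specHom β))) (IsLocalRing.closedPoint N)) (by
          rw [hy, Points.map_ofPt, prod.lift_fst])
      refine ⟨y', ?_⟩
      rw [Points.map_comp, hy', Points.map_ofPt, ← hzτ, Category.assoc, τr.hom_inv_id, Category.comp_id]
    -- cut down to a compact piece
    obtain ⟨V, hV, hVc, hxV, -⟩ := exists_compact_nhd hG
      (Points.ofPt g (IsLocalRing.closedPoint Ω)) isOpen_univ (Set.mem_univ _)
    have hι := repWith_openSubι hV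
    let XV : AlgSp.Space (Spec (CommRingCat.of k)) :=
      ⟨openSub V, isAlgSpace_of_representable hι.1 hG⟩
    have hqcV : IsQuasiCompactSp XV.obj := by
      refine (isQuasiCompactSp_iff XV.property).2 ⟨?_⟩
      rw [(isEmbedding_map_of_immersion hG (i := openSubι V)
        ⟨hι.1, fun {T T'} g p q sq => show IsImmersion q.left from
          have : IsOpenImmersion q.left := hι.2 g p q sq
          inferInstance⟩).1.isCompact_iff, Set.image_univ, range_openSubι]
      exact hVc
    have hqsV : IsQuasiSeparatedSp XV.obj :=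
      isQuasiSeparatedSp_of_mor (isQuasiSeparatedMor_of_mono (openSubι V)) hqs
    obtain ⟨gV, hgV⟩ := exists_factor_openSub (W := V) g (by
      rintro _ ⟨q, rfl⟩
      obtain ⟨q, rfl⟩ := (Points.schemeEquiv _).surjective q
      show Points.map g (Points.ofScheme _ q) ∈ V
      rw [← Points.ofPt_eq_map_ofScheme]
      have : Subsingleton ↥(spec k Ω).left := inferInstanceAs (Subsingleton (PrimeSpectrum Ω))
      rwa [Subsingleton.elim q (IsLocalRing.closedPoint Ω)])
    have sqL := isPullback_prod_map_left (openSubι V) ((yon _).obj (spec k L))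
    have hιL := repWith_of_isPullback sqL hι
    have hwL : RepWith @IsOpenImmersion (prod.map w₀ (𝟙 ((yon _).obj (spec k L))) ≫ τr.inv) :=
      (repWith_respectsIso_right τr.inv).2 (repWith_of_isPullback sqT hw₀)
    have hrepT : ((yon _).obj (Over.mk (O.ι ≫ T₀.hom)) ⨯ (yon _).obj (spec k L)).obj.IsRepresentable :=
      isRepresentable_of_iso_yon (asIso (prodComparison (yon _) (Over.mk (O.ι ≫ T₀.hom)) (spec k L)))
    have sqi := IsPullback.of_hasPullback (prod.map w₀ (𝟙 ((yon _).obj (spec k L))) ≫ τr.inv)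
      (prod.map (openSubι V) (𝟙 _))
    obtain ⟨HV, ⟨eH⟩⟩ := rep_of_isOpenImmersion (repWith_of_isPullback sqi.flip hιL) hrepT
    let zV := prod.lift ((yon _).map (specHom α) ≫ gV) ((yon _).map (specHom β))
    obtain ⟨y₂, hy₂⟩ : ∃ y, Points.ofPt (eH.hom ≫ pullback.snd _ _) y =
        Points.ofPt zV (IsLocalRing.closedPoint N) := by
      obtain ⟨y, hy⟩ := hzr
      obtain ⟨y', -, hy'⟩ := exists_point_lift sqi y (Points.ofPt zV (IsLocalRing.closedPoint N)) (by
        rw [hy, Points.map_ofPt]
        congr 1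
        simp [z, zV, hgV])
      obtain ⟨y'', rfl⟩ := (bijective_ofPt_iso eH).2 y'
      exact ⟨y'', by rw [← Points.map_ofPt]; exact hy'⟩
    obtain ⟨O', hO', hyO', -⟩ := exists_isAffineOpen_mem_and_subset (X := HV.left) (x := y₂) (U := ⊤) trivial
    let o' : Over.mk (O'.ι ≫ HV.hom) ⟶ HV := Over.homMk O'.ι rfl
    have : IsAffine (Over.mk (O'.ι ≫ HV.hom)).left := hO'
    obtain ⟨A, hA, HA, w, hHA, hw, hzA⟩ := PurTrans14.exists_stage_affine XV hqcV hqsV
      ((yon _).map o' ≫ eH.hom ≫ pullback.snd _ _)
      (repWith_comp ((repWith_yon_map_iff _ _).2 (show IsOpenImmersion O'.ι from inferInstance))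
        ((repWith_respectsIso_left eH.hom).2 (repWith_of_isPullback sqi hwL)))
      (Points.ofPt zV (IsLocalRing.closedPoint N)) (by
        refine ⟨Points.ofScheme _ (⟨y₂, hyO'⟩ : ↥O'.toScheme), ?_⟩
        rw [← Points.ofPt_eq_map_ofScheme, ofPt_map_comp]
        exact hy₂)
    -- specialise
    let T : Type u := Ω ⊗[k] A
    let σ : (yon _).obj (spec k T) ⟶ XV.obj ⨯ (yon _).obj (spec k A) :=
      prod.lift ((yon _).map (specHom (Algebra.TensorProduct.includeLeft : Ω →ₐ[k] T)) ≫ gV)
        ((yon _).map (specHom (Algebra.TensorProduct.includeRight : A →ₐ[k] T)))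
    let νA : T →ₐ[k] N := ν.comp (Algebra.TensorProduct.map (AlgHom.id k Ω) A.val)
    have hνAl : νA.comp Algebra.TensorProduct.includeLeft = α := by
      refine AlgHom.ext fun ω => ?_
      show ν ((AlgHom.id k Ω) ω ⊗ₜ[k] A.val 1) = α ω
      rw [map_one]
      exact AlgHom.congr_fun hνl ω
    have hνAr : νA.comp Algebra.TensorProduct.includeRight = β.comp A.val := by
      refine AlgHom.ext fun y => ?_
      show ν ((AlgHom.id k Ω) 1 ⊗ₜ[k] A.val y) = β (A.val y)
      rw [map_one]
      exact AlgHom.congr_fun hνr _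
    have hν : (yon _).map (specHom νA) ≫ σ = zV ≫ prod.map (𝟙 XV.obj) ((yon _).map (specHom A.val)) := by
      simp only [σ, zV, prod.comp_lift, prod.lift_map, ← Functor.map_comp_assoc,
        ← Functor.map_comp, ← PurTrans14.specHom_comp, hνAl, hνAr]
      exact congrArg₂ prod.lift (Category.comp_id _).symm rfl
    have hU : IsOpen (Points.ofPt σ ⁻¹' Set.range (Points.map w)) :=
      (isOpen_range_map_of_openImmersion hw).preimage (Points.continuous_ofPt σ)
    have hP : (specHom νA).left (IsLocalRing.closedPoint N) ∈ Points.ofPt σ ⁻¹' Set.range (Points.map w) := by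
      show Points.ofPt σ _ ∈ Set.range (Points.map w)
      rw [← ofPt_map_comp, hν, ← Points.map_ofPt]
      exact hzA
    obtain ⟨_, ⟨f₁, rfl⟩, hf₁, hfU⟩ :=
      PrimeSpectrum.isTopologicalBasis_basic_opens.exists_subset_of_mem_open hP hU
    have hνf : νA f₁ ≠ 0 := fun e0 => by
      apply hf₁
      show νA f₁ ∈ IsLocalRing.maximalIdeal N
      rw [e0]
      exact zero_mem _
    obtain ⟨k', _, _, a, hfin, hunit⟩ := exists_closedPoint_irred A hA ν hker f₁ hνf
    obtain ⟨W, w', hw', hxw⟩ := exists_nhd_of_stage XV gV hHA w hw f₁ (fun t ht => hfU ht) k' a hunit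
    refine ⟨W, w' ≫ openSubι V, repWith_comp hw' hι, ?_⟩
    obtain ⟨y, hy⟩ := hxw
    refine ⟨y, ?_⟩
    rw [Points.map_comp, hy, Points.map_ofPt, hgV, hg]
  choose W w hw hmem using cov
  obtain ⟨A, q, hqe, hqsurj⟩ := hG.atlas
  obtain ⟨Gs, ⟨es⟩⟩ := exists_iso_yon_of_points_cover (κ := ↥A.left) (U := fun a => W (Points.ofPt q a))
    (w := fun a => w _) (fun a => hw _) fun x => by
      obtain ⟨a, rfl⟩ := surjective_ofPt hqsurj x
      exact ⟨a, hmem _⟩
  exact isRepresentable_of_iso_yon es

end

end Groth.Agent.GrpScheme14
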